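import Cfsg.Agent.Classification.RankTwoFusion.Index
import Cfsg.Agent.FusionSub.PerfectCenter
import Cfsg.Agent.Small.NormalFour
import Cfsg.Prelude.Def_EvenType

/-!
Fusion systems on 2-groups of rank two: moved central involutions and their extension.
-/

set_option autoImplicit false

namespace CfsgLib.Classification.RankTwoFusion

open Cfsg Cfsg.FusionSystem CfsgLib.Fusion

section group

variable {T : Type*} [Group T]

theorem comm_of_invol {a b : T} (ha : a * a = 1) (hb : b * b = 1) (hab : a * b = b * a) :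
    a * b * (a * b) = 1 := by
  rw [Commute.mul_mul_mul_comm hab.symm, ha, hb, one_mul]

/-- In a 2-group of rank at most two an involution commuting with a four-group lies in it. -/
theorem four_cases [Finite T] (hT : IsPGroup 2 T) (h2 : Cfsg.PRankLE 2 2 T) {a b x : T}
    (ha : a * a = 1) (hb : b * b = 1) (hx : x * x = 1) (hab : a * b = b * a) (hax : x * a = a * x)
    (hbx : x * b = b * x) (ha1 : a ≠ 1) (hb1 : b ≠ 1) (hne : a ≠ b) :
    x = 1 ∨ x = a ∨ x = b ∨ x = a * b := by
  classical
  have hgen : ∀ p ∈ ({a, b, x} : Set T), ∀ q ∈ ({a, b, x} : Set T), p * q = q * p := by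
    intro p hp q hq
    simp only [Set.mem_insert_iff, Set.mem_singleton_iff] at hp hq
    rcases hp with rfl | rfl | rfl <;> rcases hq with rfl | rfl | rfl <;>
      first | rfl | assumption | exact hab.symm | exact hax.symm | exact hbx.symm
  set A := Subgroup.closure ({a, b, x} : Set T) with hA
  haveI hc : IsMulCommutative A := Subgroup.isMulCommutative_closure hgen
  have hsq : ∀ u ∈ A, u ^ 2 = 1 := by
    intro u hu
    induction hu using Subgroup.closure_induction with
    | mem p hp =>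
      simp only [Set.mem_insert_iff, Set.mem_singleton_iff] at hp
      rcases hp with rfl | rfl | rfl <;> rw [pow_two] <;> assumption
    | one => exact one_pow 2
    | mul u v hu hv iu iv =>
      rw [(show Commute u v from setLike_mul_comm (s := A) hu hv).mul_pow, iu, iv, one_mul]
    | inv u _ iu => rw [inv_pow, iu, inv_one]
  have hle : Nat.card A ≤ 4 := h2 A hc hsq
  have haA : a ∈ A := Subgroup.subset_closure (by simp)
  have hbA : b ∈ A := Subgroup.subset_closure (by simp)
  have hxA : x ∈ A := Subgroup.subset_closure (by simp)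
  let s : Finset A := {1, ⟨a, haA⟩, ⟨b, hbA⟩, ⟨a * b, A.mul_mem haA hbA⟩}
  have hab1 : a * b ≠ 1 := fun e => hne (by
    rw [← mul_one a, ← hb, ← mul_assoc, e, one_mul])
  have hs : s.card = 4 := by
    rw [Finset.card_insert_of_notMem (by simp [Subtype.ext_iff, Ne.symm ha1, Ne.symm hb1, Ne.symm hab1]),
      Finset.card_insert_of_notMem (by simp [Subtype.ext_iff, hne, hb1]),
      Finset.card_insert_of_notMem (by simp [Subtype.ext_iff, ha1]), Finset.card_singleton]
  letI : Fintype A := Fintype.ofFinite _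
  have huniv : s = Finset.univ := Finset.eq_univ_of_card _ (le_antisymm (Finset.card_le_univ _)
    (by rw [hs, ← Nat.card_eq_fintype_card]; exact hle))
  have hm : (⟨x, hxA⟩ : A) ∈ s := huniv ▸ Finset.mem_univ _
  simpa [s, Subtype.ext_iff] using hm

theorem exists_involution_center [Finite T] (hT : IsPGroup 2 T) (N : Subgroup T) [N.Normal]
    (hN : N ≠ ⊥) : ∃ z ∈ N, z ∈ Subgroup.center T ∧ z * z = 1 ∧ z ≠ 1 := by
  obtain ⟨z, hzN, hzc, hzo⟩ := CfsgLib.Small.exists_central_invol_mem hT N hN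
  exact ⟨z, hzN, hzc, by rw [← pow_two, ← hzo, pow_orderOf_eq_one],
    fun h => by rw [h, orderOf_one] at hzo; omega⟩

/-- The four-group `{1, a, b, ab}`. -/
def four {a b : T} (ha : a * a = 1) (hb : b * b = 1) (hab : a * b = b * a) : Subgroup T where
  carrier := {x | x = 1 ∨ x = a ∨ x = b ∨ x = a * b}
  one_mem' := Or.inl rfl
  mul_mem' := by
    have h1 : a * (a * b) = b := by rw [← mul_assoc, ha, one_mul]
    have h2 : a * b * a = b := by rw [mul_assoc, ← hab, h1]
    have h3 : b * (a * b) = a := by rw [← mul_assoc, ← hab, mul_assoc, hb, mul_one]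
    have h4 : a * b * b = a := by rw [mul_assoc, hb, mul_one]
    rintro x y (rfl | rfl | rfl | rfl) (rfl | rfl | rfl | rfl) <;>
      simp [ha, hb, h1, h2, h3, h4, comm_of_invol ha hb hab, hab.symm]
  inv_mem' := by
    rintro x (rfl | rfl | rfl | rfl)
    · simp
    · exact Or.inr (Or.inl (inv_eq_of_mul_eq_one_right ha))
    · exact Or.inr (Or.inr (Or.inl (inv_eq_of_mul_eq_one_right hb)))
    · exact Or.inr (Or.inr (Or.inr (inv_eq_of_mul_eq_one_right (comm_of_invol ha hb hab))))

theorem mem_four {a b x : T} {ha : a * a = 1} {hb : b * b = 1} {hab : a * b = b * a} :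
    x ∈ four ha hb hab ↔ (x = 1 ∨ x = a ∨ x = b ∨ x = a * b) := Iff.rfl

theorem sq_of_mem_four {a b x : T} {ha : a * a = 1} {hb : b * b = 1} {hab : a * b = b * a}
    (h : x ∈ four ha hb hab) : x * x = 1 := by
  rcases mem_four.1 h with rfl | rfl | rfl | rfl
  exacts [one_mul 1, ha, hb, comm_of_invol ha hb hab]

theorem card_four {a b : T} (ha : a * a = 1) (hb : b * b = 1) (hab : a * b = b * a)
    (ha1 : a ≠ 1) (hb1 : b ≠ 1) (hne : a ≠ b) : Nat.card (four ha hb hab) = 4 := by
  classical
  have hab1 : a * b ≠ 1 := fun e => hne (by rw [← mul_one a, ← hb, ← mul_assoc, e, one_mul])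
  let s : Finset T := {1, a, b, a * b}
  have hs : s.card = 4 := by
    rw [Finset.card_insert_of_notMem (by simp [Ne.symm ha1, Ne.symm hb1, Ne.symm hab1]),
      Finset.card_insert_of_notMem (by simp [hne, hb1]),
      Finset.card_insert_of_notMem (by simp [ha1]), Finset.card_singleton]
  have : (four ha hb hab : Set T) = (s : Set T) := by
    ext x; simp [s, mem_four]
  rw [← SetLike.coe_sort_coe, Nat.card_coe_set_eq, this, Set.ncard_coe_finset, hs]

/-- A group of automorphisms of a four-group moving every non-trivial element has a member with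
transitive powers. -/
theorem exists_three_cycle {E : Type*} [Group E] [Finite E] (hE : ∀ x : E, x * x = 1) (h4 : Nat.card E = 4)
    (G : Subgroup (MulAut E)) (hmove : ∀ x : E, x ≠ 1 → ∃ α ∈ G, α x ≠ x) :
    ∃ β ∈ G, ∀ x y : E, x ≠ 1 → y ≠ 1 → ∃ k : ℕ, (β ^ k) x = y := by
  classical
  letI : Fintype E := Fintype.ofFinite _
  have three : ∀ p q r w : E, p ≠ 1 → q ≠ 1 → r ≠ 1 → w ≠ 1 → p ≠ q → p ≠ r → q ≠ r →
      w = p ∨ w = q ∨ w = r := by
    intro p q r w hp hq hr hw hpq hpr hqr
    by_contra h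
    push Not at h
    obtain ⟨hwp, hwq, hwr⟩ := h
    have := Finset.card_le_univ ({1, p, q, r, w} : Finset E)
    rw [Finset.card_insert_of_notMem (by simp [Ne.symm hp, Ne.symm hq, Ne.symm hr, Ne.symm hw]),
      Finset.card_insert_of_notMem (by simp [hpq, hpr, Ne.symm hwp]),
      Finset.card_insert_of_notMem (by simp [hqr, Ne.symm hwq]),
      Finset.card_insert_of_notMem (by simp [Ne.symm hwr]), Finset.card_singleton,
      ← Nat.card_eq_fintype_card, h4] at this
    omega
  have tri : ∀ β : MulAut E, (∀ x, x ≠ 1 → β x ≠ x) →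
      ∀ x y : E, x ≠ 1 → y ≠ 1 → ∃ k : ℕ, (β ^ k) x = y := by
    intro β hβ x y hx hy
    have h1 : β x ≠ 1 := fun h => hx (β.map_eq_one_iff.1 h)
    have h2 : β (β x) ≠ 1 := fun h => h1 (β.map_eq_one_iff.1 h)
    have h3 : β (β x) ≠ x := fun h => by
      have hp : x * β x ≠ 1 := fun e => hβ x hx (by
        have := mul_eq_one_iff_inv_eq.1 e
        rw [inv_eq_of_mul_eq_one_right (hE x)] at this
        exact this.symm)
      refine hβ _ hp ?_
      rw [map_mul, h]
      exact ((show Commute x (β x) from by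
        show x * β x = β x * x
        calc x * β x = (x * β x)⁻¹ := (inv_eq_of_mul_eq_one_right (hE _)).symm
          _ = β x * x := by rw [mul_inv_rev, inv_eq_of_mul_eq_one_right (hE x), inv_eq_of_mul_eq_one_right (hE (β x))]).eq).symm
    rcases three x (β x) (β (β x)) y hx h1 h2 hy (hβ x hx).symm h3.symm (hβ _ h1).symm with e | e | e
    · exact ⟨0, by simp [e]⟩
    · exact ⟨1, by simp [e]⟩
    · exact ⟨2, by simp [e, pow_two]⟩
  suffices ∃ β ∈ G, ∀ x, x ≠ 1 → β x ≠ x by
    obtain ⟨β, hβ, h⟩ := this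
    exact ⟨β, hβ, tri β h⟩
  haveI : Nontrivial E := Finite.one_lt_card_iff_nontrivial.1 (by omega)
  obtain ⟨p, hp⟩ := exists_ne (1 : E)
  obtain ⟨α, hαG, hαp⟩ := hmove p hp
  by_cases hα : ∀ x, x ≠ 1 → α x ≠ x
  · exact ⟨α, hαG, hα⟩
  push Not at hα
  obtain ⟨q, hq, hαq⟩ := hα
  obtain ⟨γ, hγG, hγq⟩ := hmove q hq
  by_cases hγ : ∀ x, x ≠ 1 → γ x ≠ x
  · exact ⟨γ, hγG, hγ⟩
  push Not at hγ
  obtain ⟨t, ht, hγt⟩ := hγ
  have htq : t ≠ q := fun h => hγq (h ▸ hγt)
  -- `q` is the only fixed point of `α`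
  have hαt : α t ≠ t := fun h => by
    have hpq : p ≠ q := fun e => hαp (e ▸ hαq)
    have hpt : p ≠ t := fun e => hαp (e ▸ h)
    rcases three p q t (α p) hp hq ht (fun e => hp (α.map_eq_one_iff.1 e)) hpq hpt htq.symm with e | e | e
    · exact hαp e
    · exact hpq (α.injective (e.trans hαq.symm))
    · exact hpt (α.injective (e.trans h.symm))
  set r := α t with hr
  have hr1 : r ≠ 1 := fun e => ht (α.map_eq_one_iff.1 e)
  have hrq : r ≠ q := fun e => htq (α.injective (e.trans hαq.symm))
  have hαr : α r = t := by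
    rcases three t q r (α r) ht hq hr1 (fun e => hr1 (α.map_eq_one_iff.1 e)) htq hαt.symm hrq.symm
      with e | e | e
    · exact e
    · exact absurd (α.injective (e.trans hαq.symm)) hrq
    · exact absurd (α.injective e) hαt
  have hγq' : γ q = r := by
    rcases three t q r (γ q) ht hq hr1 (fun e => hq (γ.map_eq_one_iff.1 e)) htq hαt.symm hrq.symm
      with e | e | e
    · exact absurd (γ.injective (e.trans hγt.symm)) htq.symm
    · exact absurd e hγq
    · exact e
  have hγr : γ r = q := by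
    rcases three t q r (γ r) ht hq hr1 (fun e => hr1 (γ.map_eq_one_iff.1 e)) htq hαt.symm hrq.symm
      with e | e | e
    · exact absurd (γ.injective (e.trans hγt.symm)) hαt
    · exact e
    · exact absurd (γ.injective (e.trans hγq'.symm)) hrq
  refine ⟨α * γ, G.mul_mem hαG hγG, fun x hx => ?_⟩
  rw [MulAut.mul_apply]
  rcases three t q r x ht hq hr1 hx htq hαt.symm hrq.symm with rfl | rfl | rfl
  · rw [hγt]; exact hαt
  · rw [hγq', hαr]; exact htq
  · rw [hγr, hαq]; exact hrq.symm

end group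

variable {Ω : Type*} [Group Ω] {S : Subgroup Ω} [Finite S] {F : FusionSystem S}

/-- A non-trivial central element is moved by an automorphism of a centric subgroup. -/
theorem exists_moving (hS : IsPGroup 2 S) (hF : F.IsSaturated 2) (hZ : F.center = ⊥) {z : Ω}
    (hzS : z ∈ S) (hzc : ∀ s ∈ S, s * z = z * s) (hz1 : z ≠ 1) :
    ∃ (Q : Subgroup Ω) (α : MulAut Q), F.IsCentric Q ∧ α ∈ F.autGroup Q ∧
      ∃ hzQ : z ∈ Q, α ⟨z, hzQ⟩ ≠ ⟨z, hzQ⟩ := by
  by_contra hno
  push Not at hno
  haveI : Fact (Nat.Prime 2) := ⟨Nat.prime_two⟩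
  have hY : Subgroup.zpowers z ≤ S := Subgroup.zpowers_le.2 hzS
  have hc : F.IsCentral (Subgroup.zpowers z) := by
    refine CfsgLib.FusionSub.isCentral_of_fixed hS hF hY ?_ fun Q _ hQc _ α hα x hx => ?_
    · rintro y ⟨k, rfl⟩ s hs
      exact ((show Commute s z from hzc s hs).zpow_right k).eq
    · have hzQ : z ∈ Q := centralizerIn_le_of_centric hQc
        (mem_centralizerIn.2 ⟨hzS, fun q hq => hzc q (hQc.1 hq)⟩)
      obtain ⟨k, hk⟩ := Subgroup.mem_zpowers_iff.1 hx
      have hxk : x = (⟨z, hzQ⟩ : Q) ^ k := Subtype.ext (by simp [hk])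
      rw [hxk, map_zpow, hno Q α hQc hα hzQ]
  have h1 : Subgroup.zpowers z ≤ F.center :=
    le_sSup (s := {Q : Subgroup Ω | F.IsCentral Q}) hc
  rw [hZ, le_bot_iff, Subgroup.zpowers_eq_bot] at h1
  exact hz1 h1

/-- An automorphism of a normal abelian subgroup extends to its centralizer. -/
theorem exists_extend_centralizer (hS : IsPGroup 2 S) (hF : F.IsSaturated 2) {E : Subgroup Ω}
    (hE : E ≤ S) (hEn : S ≤ Subgroup.normalizer (E : Set Ω)) (hEc : E ≤ centralizerIn S E)
    {β : MulAut E} (hβ : β ∈ F.autGroup E) :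
    ∃ φ : MulAut (centralizerIn S E),
      ∀ (x : E) (h : (x : Ω) ∈ centralizerIn S E), (φ ⟨x, h⟩ : Ω) = β x := by
  haveI : Fact (Nat.Prime 2) := ⟨Nat.prime_two⟩
  have hN : normalizerIn S E = S := inf_eq_left.2 hEn
  have hfn : F.IsFullyNormalized E := ⟨hE, fun Q _ => by
    rw [hN]; exact Nat.card_le_card_of_injective _ (Subgroup.inclusion_injective (normalizerIn_le S Q))⟩
  obtain ⟨-, hr⟩ := automized_receptive hS hF hfn
  have hI : IsIso F β := (mem_autGroup_iff hE).1 hβ
  obtain ⟨χ, hχ, hx⟩ := exists_extension hr hI (T := centralizerIn S E) (centralizerIn_le_extender _)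
  have himg := imgHom_eq_of_agree hEc hx
  have hmem : ∀ x, χ x ∈ centralizerIn S E := fun x => by
    refine Subgroup.mem_inf.2 ⟨apply_mem hχ x, ?_⟩
    have := map_mem_centralizer (ψ := χ) hEc (g := x) x.2.2
    rwa [himg] at this
  haveI := finite_of_le (centralizerIn_le S E)
  refine ⟨MulEquiv.ofBijective (χ.codRestrict _ hmem) (Finite.injective_iff_bijective.1 fun a b h =>
    F.injective_of_mem hχ (congrArg Subtype.val h)), fun x h => hx x h⟩

/-- The restriction of an automorphism in the system to a subgroup it preserves. -/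
theorem exists_restrict_aut {Q E : Subgroup Ω} (hQ : Q ≤ S) {α : MulAut Q} (hα : α ∈ F.autGroup Q)
    (hEQ : E ≤ Q) (hstab : ∀ x : Q, (x : Ω) ∈ E → (α x : Ω) ∈ E) :
    ∃ β ∈ F.autGroup E, ∀ x : E, (β x : Ω) = α ⟨x, hEQ x.2⟩ := by
  have hI : IsIso F α := (mem_autGroup_iff hQ).1 hα
  haveI := finite_of_le (hEQ.trans hQ)
  have himg : imgHom (Q.subtype.comp α.toMonoidHom) E = E := by
    refine Subgroup.eq_of_le_of_card_ge ?_ (card_imgHom (F.injective_of_mem hI) hEQ).ge
    rintro _ ⟨x, hx, rfl⟩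
    exact hstab x hx
  obtain ⟨e, he, hex⟩ := exists_iso (restrict_mem hI hEQ) ((range_restrictHom _ hEQ).trans himg)
  exact ⟨e, he.mem_autGroup, hex⟩

end CfsgLib.Classification.RankTwoFusion
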