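import Cfsg.Agent.Classification.RankTwoFusion.Outer
import Cfsg.Agent.S3224
import Cfsg.Prelude.Def_CaseTheorems
import Mathlib.GroupTheory.SpecificGroups.Dihedral

/-!
2-groups containing a subgroup of index two with three involutions permuted transitively by an
automorphism, one of them central in the whole group and another one not.
-/

set_option autoImplicit false

namespace CfsgLib.Classification.RankTwoFusion

open Subgroup CfsgLib.TwoGroups.RankTwoTransitive

universe u

variable {T : Type u} [Group T] [Finite T]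

theorem pow_half_of_mem_zpowers {x w : T} {n : ℕ} (hn : 1 ≤ n) (hx : orderOf x = 2 ^ n)
    (hw : w ∈ zpowers x) (h2 : w * w = 1) : w = 1 ∨ w = x ^ 2 ^ (n - 1) := by
  classical
  obtain ⟨j, hj⟩ := (mem_powers_iff_mem_zpowers).2 hw
  change x ^ j = w at hj
  have h3 : 2 ^ n ∣ j + j := by
    rw [← hx]; exact orderOf_dvd_of_pow_eq_one (by rw [pow_add, hj, h2])
  rw [show 2 ^ n = 2 * 2 ^ (n - 1) by rw [← pow_succ']; congr 1; omega, ← two_mul] at h3
  obtain ⟨l, rfl⟩ := Nat.dvd_of_mul_dvd_mul_left two_pos h3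
  rw [← hj, pow_mul]
  have hsq : (x ^ 2 ^ (n - 1)) * x ^ 2 ^ (n - 1) = 1 := by
    rw [← pow_add, ← two_mul, ← pow_succ', show n - 1 + 1 = n by omega, ← hx, pow_orderOf_eq_one]
  rcases Nat.even_or_odd l with ⟨i, rfl⟩ | ⟨i, rfl⟩
  · left; rw [← two_mul, pow_mul, pow_two, hsq, one_pow]
  · right; rw [pow_succ, pow_mul, pow_two, hsq, one_pow, one_mul]

/-- The structure of an index two extension. -/
theorem wreathed_or_small (hT : IsPGroup 2 T) (C : Subgroup T) (hC : C.index = 2)
    {z : T} (hzc : z ∈ center T) (hzC : z ∈ C) (hz2 : z * z = 1) (hz1 : z ≠ 1)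
    {v : T} (hvC : v ∈ C) (hv2 : v * v = 1) (hv1 : v ≠ 1) {s : T} (hs : s * v * s⁻¹ ≠ v)
    (h4 : Nat.card {x : C // x * x = 1} = 4) (φ : MulAut C)
    (htr : ∀ a b : C, a ≠ 1 → a * a = 1 → b ≠ 1 → b * b = 1 → ∃ k : ℕ, (φ ^ k) a = b) :
    Cfsg.IsWreathed T ∨ (∃ m : ℕ, 2 ≤ m ∧ Nonempty (T ≃* DihedralGroup m)) ∨
      Cfsg.IsQuasiDihedral T := by
  classical
  haveI hCn : C.Normal := normal_of_index_eq_two hC
  obtain ⟨ψ, z₀, htri₀⟩ := exists_tri (hT.to_subgroup C) φ htr h4
  let zC : C := ⟨z, hzC⟩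
  let vC : C := ⟨v, hvC⟩
  have hzC2 : zC * zC = 1 := Subtype.ext hz2
  have hzC1 : zC ≠ 1 := fun e => hz1 (congrArg Subtype.val e)
  have htri : Tri ψ zC := ⟨htri₀.two, hzC2, hzC1, htri₀.card,
    fun e => hzC1 (htri₀.eq_one_of_fix e), htri₀.ord⟩
  have hvc2 : vC * vC = 1 := Subtype.ext hv2
  have hv1' : vC ≠ 1 := fun e => hv1 (congrArg Subtype.val e)
  have hsz : ∀ g : T, g * z * g⁻¹ = z := fun g => by
    rw [mem_center_iff.1 hzc g, mul_inv_cancel_right]
  have hsC : s ∉ C := fun hsC => hs (by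
    have : (⟨s, hsC⟩ : C) * vC = vC * ⟨s, hsC⟩ := mem_center_iff.1 (htri.mem_center hvc2) _
    have h2 : s * v = v * s := congrArg Subtype.val this
    rw [h2, mul_inv_cancel_right])
  have hss : s * s ∈ C := by
    rw [mul_mem_iff_of_index_two hC]
  let σ : MulAut C :=
    { toFun := fun c => ⟨s * c * s⁻¹, hCn.conj_mem c c.2 s⟩
      invFun := fun c => ⟨s⁻¹ * c * s, by simpa using hCn.conj_mem c c.2 s⁻¹⟩
      left_inv := fun c => Subtype.ext (by show s⁻¹ * (s * c * s⁻¹) * s = c; group)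
      right_inv := fun c => Subtype.ext (by show s * (s⁻¹ * c * s) * s⁻¹ = c; group)
      map_mul' := fun a b => Subtype.ext (by
        show s * (a * b : T) * s⁻¹ = s * a * s⁻¹ * (s * b * s⁻¹); group) }
  have hσv : ∀ c : C, ((σ c : C) : T) = s * c * s⁻¹ := fun c => rfl
  have hσz : σ zC = zC := Subtype.ext (hsz s)
  -- the abelian case
  have hab : ∀ x y : C, x * y = y * x := by
    by_contra hna
    refine false_of_outer htri hna σ hσz (fun hfix => hs ?_) fun x => ?_
    · rcases htri.cases hvc2 with e | e | e | e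
      · exact absurd e hv1'
      · rw [show v = z from congrArg Subtype.val e]; exact hsz s
      · have := congrArg Subtype.val hfix
        rw [hσv, ← e] at this
        exact this
      · have h3 : ψ (ψ zC) = zC * ψ zC := by
          have h5 := htri.prod_three htri.sq
          rw [mul_eq_one_iff_inv_eq, mul_inv_rev, inv_eq_of_mul_eq_one_right htri.sq,
            inv_eq_of_mul_eq_one_right (htri.sq_map htri.sq)] at h5
          rw [← h5]
          exact (mem_center_iff.1 (htri.mem_center hzC2) _)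
        have : σ vC = vC := by rw [e, h3, map_mul, hσz, hfix]
        exact congrArg Subtype.val this
    · have hc : (⟨s * s, hss⟩ : C) * x * (⟨s * s, hss⟩ : C)⁻¹ = σ (σ x) := Subtype.ext (by
        show s * s * (x : T) * (s * s)⁻¹ = s * (s * x * s⁻¹) * s⁻¹
        group)
      obtain ⟨fr⟩ := nonempty_frame htri hna
      rw [← hc]
      have := fr.comm_mem x⁻¹ ⟨s * s, hss⟩
      rw [commutatorElement_def, inv_inv] at this
      rwa [← mul_assoc, ← mul_assoc]
  obtain ⟨n, hn, ⟨e⟩⟩ := htri.homocyclic hab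
  have hexp : ∀ c : C, c ^ 2 ^ n = 1 := fun c => e.injective (by
    rw [map_pow, map_one]
    refine Multiplicative.toAdd.injective ?_
    rw [toAdd_pow, toAdd_one]
    exact Prod.ext (by rw [Prod.smul_fst, nsmul_eq_mul, ZMod.natCast_self, zero_mul, Prod.fst_zero])
      (by rw [Prod.smul_snd, nsmul_eq_mul, ZMod.natCast_self, zero_mul, Prod.snd_zero]))
  have hcardC : Nat.card C = 2 ^ n * 2 ^ n := by
    rw [Nat.card_congr e.toEquiv, Nat.card_congr Multiplicative.toAdd, Nat.card_prod, Nat.card_zmod]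
  -- a root of `v`
  obtain ⟨xC, hxv⟩ : ∃ x : C, x ^ 2 ^ (n - 1) = vC := by
    let x₀ : C := e.symm (Multiplicative.ofAdd (1, 0))
    have hne : x₀ ^ 2 ^ (n - 1) ≠ 1 := fun h => by
      have h' := congrArg (fun c => (Multiplicative.toAdd (e c)).1) h
      simp only [x₀, map_pow, MulEquiv.apply_symm_apply, toAdd_pow, map_one, toAdd_one, toAdd_ofAdd] at h'
      rw [Prod.smul_fst, Prod.fst_zero, nsmul_eq_mul, mul_one] at h'
      rw [ZMod.natCast_eq_zero_iff] at h'
      have h6 := (Nat.pow_dvd_pow_iff_le_right (show 1 < 2 by norm_num)).1 h'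
      omega
    have h2 : x₀ ^ 2 ^ (n - 1) * x₀ ^ 2 ^ (n - 1) = 1 := by
      rw [← pow_add, ← two_mul, ← pow_succ', show n - 1 + 1 = n by omega, hexp]
    obtain ⟨k, hk⟩ := htr _ vC hne h2 hv1' hvc2
    exact ⟨(φ ^ k) x₀, by rw [← map_pow, hk]⟩
  set x : T := (xC : T) with hxdef
  set y : T := s * x * s⁻¹ with hydef
  have hyC : y ∈ C := (σ xC).2
  have hxpow : x ^ 2 ^ (n - 1) = v := by
    have := congrArg Subtype.val hxv; simpa using this
  have hypow : y ^ 2 ^ (n - 1) = s * v * s⁻¹ := by rw [hydef, conj_pow, hxpow]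
  have hox : orderOf x = 2 ^ n := by
    rw [show n = n - 1 + 1 by omega]
    refine orderOf_eq_prime_pow ?_ ?_
    · rw [hxpow]; exact hv1
    · rw [show n - 1 + 1 = n by omega]
      have := congrArg Subtype.val (hexp xC); simpa using this
  have hoy : orderOf y = 2 ^ n := by
    rw [hydef, show s * x * s⁻¹ = MulAut.conj s x from rfl, MulEquiv.orderOf_eq, hox]
  have hxy : x * y = y * x := congrArg Subtype.val (hab xC ⟨y, hyC⟩)
  have hdisj : zpowers x ⊓ zpowers y = ⊥ := by
    by_contra hne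
    haveI : Nontrivial (zpowers x ⊓ zpowers y : Subgroup T) := (nontrivial_iff_ne_bot _).2 hne
    obtain ⟨k, hk, hcard⟩ := (hT.to_subgroup (zpowers x ⊓ zpowers y)).nontrivial_iff_card.1 ‹_›
    haveI : Fact (Nat.Prime 2) := ⟨Nat.prime_two⟩
    obtain ⟨⟨w, hw⟩, hwo⟩ := exists_prime_orderOf_dvd_card' (G := (zpowers x ⊓ zpowers y : Subgroup T)) 2
      (hcard ▸ dvd_pow_self 2 hk.ne')
    rw [Subgroup.orderOf_mk] at hwo
    have hw2 : w * w = 1 := by rw [← pow_two, ← hwo, pow_orderOf_eq_one]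
    have hw1 : w ≠ 1 := fun h => by rw [h, orderOf_one] at hwo; omega
    obtain ⟨hwx, hwy⟩ := Subgroup.mem_inf.1 hw
    have e1 := (pow_half_of_mem_zpowers hn hox hwx hw2).resolve_left hw1
    have e2 := (pow_half_of_mem_zpowers hn hoy hwy hw2).resolve_left hw1
    rw [e1, hxpow, hypow] at e2
    exact hs e2.symm
  -- `x` and `y` generate `C`
  have hgen : ∀ c ∈ C, ∃ a b : ℤ, x ^ a * y ^ b = c := by
    have hle : ∀ p : zpowers x × zpowers y, (p.1 : T) * p.2 ∈ C := fun p =>
      C.mul_mem (zpowers_le.2 xC.2 p.1.2) (zpowers_le.2 hyC p.2.2)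
    let f : zpowers x × zpowers y → C := fun p => ⟨p.1 * p.2, hle p⟩
    have hinj : Function.Injective f := by
      rintro ⟨a, b⟩ ⟨a', b'⟩ he
      have h1 : (a : T) * b = a' * b' := congrArg Subtype.val he
      have h2 : (a' : T)⁻¹ * a ∈ zpowers x ⊓ zpowers y := by
        refine ⟨(zpowers x).mul_mem ((zpowers x).inv_mem a'.2) a.2, ?_⟩
        rw [show (a' : T)⁻¹ * a = b' * (b : T)⁻¹ by
          rw [eq_mul_inv_iff_mul_eq, mul_assoc, h1, inv_mul_cancel_left]]
        exact (zpowers y).mul_mem b'.2 ((zpowers y).inv_mem b.2)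
      rw [hdisj, mem_bot, inv_mul_eq_one] at h2
      have h3 : (b : T) = b' := by rw [← h2] at h1; exact mul_left_cancel h1
      exact Prod.ext (Subtype.ext h2.symm) (Subtype.ext h3)
    have hsurj := ((Nat.bijective_iff_injective_and_card f).2 ⟨hinj, by
      rw [Nat.card_prod, Nat.card_zpowers, Nat.card_zpowers, hox, hoy, hcardC]⟩).2
    intro c hc
    obtain ⟨⟨⟨_, a, rfl⟩, ⟨_, b, rfl⟩⟩, hp⟩ := hsurj ⟨c, hc⟩
    exact ⟨a, b, congrArg Subtype.val hp⟩
  obtain ⟨a, b, hab'⟩ := hgen _ hss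
  have hsy : s * y * s⁻¹ = x := by
    have h1 : (⟨s * s, hss⟩ : C) * xC = xC * ⟨s * s, hss⟩ := hab _ _
    have h2 : s * s * x = x * (s * s) := congrArg Subtype.val h1
    rw [hydef]
    calc s * (s * x * s⁻¹) * s⁻¹ = s * s * x * (s * s)⁻¹ := by group
      _ = x := by rw [h2, mul_inv_cancel_right]
  have hfix : x ^ a * y ^ b = y ^ a * x ^ b := by
    have h1 : s * (x ^ a * y ^ b) * s⁻¹ = x ^ a * y ^ b := by rw [hab']; group
    have hconj : ∀ p q : T, s * (p * q) * s⁻¹ = s * p * s⁻¹ * (s * q * s⁻¹) := fun p q => by group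
    rw [hconj, ← conj_zpow, ← conj_zpow, hsy, ← hydef] at h1
    exact h1.symm
  have hyab : y ^ (a - b) = 1 := by
    rw [← mem_bot, ← hdisj]
    refine ⟨⟨a - b, ?_⟩, zpow_mem_zpowers y _⟩
    show x ^ (a - b) = y ^ (a - b)
    have hc : ∀ i j : ℤ, Commute (x ^ i) (y ^ j) := fun i j => Commute.zpow_zpow hxy i j
    calc x ^ (a - b) = x ^ (-b) * (x ^ a * y ^ b) * y ^ (-b) := by group
      _ = x ^ (-b) * (y ^ a * x ^ b) * y ^ (-b) := by rw [hfix]
      _ = x ^ (-b) * (x ^ b * y ^ a) * y ^ (-b) := by rw [(hc b a).eq]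
      _ = y ^ (a - b) := by group
  set s' := s * x ^ (-a) with hs'
  have hs'2 : s' * s' = 1 := by
    calc s' * s' = (s * x * s⁻¹) ^ (-a) * (s * s) * x ^ (-a) := by rw [hs', conj_zpow]; group
      _ = y ^ (-a) * (x ^ a * y ^ b) * x ^ (-a) := by rw [hab']
      _ = y ^ (-a) * (y ^ b * x ^ a) * x ^ (-a) := by rw [(Commute.zpow_zpow hxy a b).eq]
      _ = (y ^ (a - b))⁻¹ := by group
      _ = 1 := by rw [hyab, inv_one]
  have hs'x : s' * x * s'⁻¹ = y := by rw [hs', hydef]; group
  have hs'1 : s' ≠ 1 := fun h => hsC (by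
    have : s = x ^ a := by rw [hs', mul_eq_one_iff_eq_inv, zpow_neg, inv_inv] at h; exact h
    rw [this]; exact zpowers_le.2 xC.2 ⟨a, rfl⟩)
  have hcard : Nat.card T = 2 ^ (2 * n + 1) := by
    rw [← C.card_mul_index, hC, hcardC, ← pow_add, ← pow_succ]; congr 1; omega
  by_cases hn2 : 2 ≤ n
  · exact Or.inl ⟨n, hn2, hcard, x, y, s', hox, hxy, hdisj, orderOf_eq_prime (by rw [pow_two, hs'2]) hs'1, hs'x⟩
  have hn1 : n = 1 := by omega
  subst hn1
  have hcv : Nat.card (centralizer ({v} : Set T)) = 4 := by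
    have hle : C ≤ centralizer ({v} : Set T) := fun c hc => mem_centralizer_singleton_iff.2
      (congrArg Subtype.val (hab ⟨c, hc⟩ vC))
    have hne : centralizer ({v} : Set T) ≠ ⊤ := fun htop => hs (by
      have := mem_centralizer_singleton_iff.1 (htop ▸ mem_top s : s ∈ centralizer ({v} : Set T))
      rw [this, mul_inv_cancel_right])
    have h1 := Subgroup.index_mul_card (centralizer ({v} : Set T))
    have h2 : 4 ≤ Nat.card (centralizer ({v} : Set T)) := by
      have := Nat.card_le_card_of_injective _ (Subgroup.inclusion_injective hle)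
      rw [hcardC] at this
      simpa using this
    rw [hcard] at h1
    have h3 : 2 ≤ (centralizer ({v} : Set T)).index := by
      have := Subgroup.index_ne_zero_of_finite (H := centralizer ({v} : Set T))
      have : (centralizer ({v} : Set T)).index ≠ 1 := fun h => hne (index_eq_one.1 h)
      omega
    norm_num at h1
    nlinarith
  rcases Cfsg.Agent.S3224.result hT v (orderOf_eq_prime (p := 2) (by rw [pow_two, hv2]) hv1) hcv with ⟨m, ⟨em⟩⟩ | h | h
  · refine Or.inr (Or.inl ⟨m, ?_, ⟨em⟩⟩)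
    have := Nat.card_congr em.toEquiv
    rw [hcard, DihedralGroup.nat_card] at this
    norm_num at this
    omega
  · exact Or.inr (Or.inr h)
  · rw [hcard] at h; norm_num at h

end CfsgLib.Classification.RankTwoFusion
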