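import Cfsg.Agent.Classification.RankTwoFusion.Basic
import Cfsg.Agent.S1237
import Cfsg.Agent.S0519
import Cfsg.Agent.TwoGroups.WreathedSubgroups
import Cfsg.Agent.Small.NormalFour

/-!
Saturated fusion systems with trivial centre on 2-groups of rank two.
-/

set_option autoImplicit false

namespace CfsgLib.Classification.RankTwoFusion

open Cfsg Cfsg.FusionSystem CfsgLib.Fusion

variable {Ω : Type*} [Group Ω] {S : Subgroup Ω} [Finite S] {F : FusionSystem S}

/-- From a normal four-group of `S` all whose non-trivial elements move, an automorphism of its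
centraliser permuting them transitively. -/
theorem exists_aut_centralizer (hS : IsPGroup 2 S) (hF : F.IsSaturated 2) {a b : S} (ha : a * a = 1)
    (hb : b * b = 1) (hab : a * b = b * a) (ha1 : a ≠ 1) (hb1 : b ≠ 1) (hne : a ≠ b)
    (hn : (four ha hb hab).Normal)
    (hmove : ∀ x : ((four ha hb hab).map S.subtype : Subgroup Ω), x ≠ 1 →
      ∃ β ∈ F.autGroup ((four ha hb hab).map S.subtype), β x ≠ x) :
    ∃ φ : MulAut (Subgroup.centralizer (four ha hb hab : Set S)),
      ∀ x y : Subgroup.centralizer (four ha hb hab : Set S), (x : S) ∈ four ha hb hab → x ≠ 1 →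
        (y : S) ∈ four ha hb hab → y ≠ 1 → ∃ k : ℕ, (φ ^ k) x = y := by
  set E₀ := four ha hb hab with hE₀
  set E : Subgroup Ω := E₀.map S.subtype with hEdef
  have hES : E ≤ S := Subgroup.map_subtype_le _
  haveI := finite_of_le hES
  have memE : ∀ {x : S}, (x : Ω) ∈ E ↔ x ∈ E₀ := fun {x} =>
    ⟨fun ⟨y, hy, hxy⟩ => Subtype.ext hxy ▸ hy, fun h => ⟨x, h, rfl⟩⟩
  have hcomm : ∀ x ∈ E₀, ∀ y ∈ E₀, x * y = y * x := fun x hx y hy => by
    have h1 := sq_of_mem_four (E₀.mul_mem hx hy)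
    calc x * y = (x * y)⁻¹ := (inv_eq_of_mul_eq_one_right h1).symm
      _ = y * x := by
        rw [mul_inv_rev, inv_eq_of_mul_eq_one_right (sq_of_mem_four hx),
          inv_eq_of_mul_eq_one_right (sq_of_mem_four hy)]
  have hEn : S ≤ Subgroup.normalizer (E : Set Ω) := fun s hs => by
    rw [Subgroup.mem_normalizer_iff]
    intro x
    constructor
    · rintro ⟨y, hy, rfl⟩
      exact ⟨⟨s, hs⟩ * y * ⟨s, hs⟩⁻¹, hn.conj_mem y hy _, rfl⟩
    · rintro ⟨y, hy, hxy⟩
      refine ⟨⟨s, hs⟩⁻¹ * y * ⟨s, hs⟩⁻¹⁻¹, hn.conj_mem y hy _, ?_⟩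
      simp only [map_mul, map_inv, Subgroup.coe_subtype] at hxy ⊢
      rw [hxy]
      group
  have hEc : E ≤ centralizerIn S E := by
    intro x hx
    refine mem_centralizerIn.2 ⟨hES hx, fun y hy => ?_⟩
    exact congrArg Subtype.val (hcomm ⟨y, hES hy⟩ (memE.1 hy) ⟨x, hES hx⟩ (memE.1 hx))
  have hsqE : ∀ x : E, x * x = 1 := fun x => Subtype.ext
    (congrArg Subtype.val (sq_of_mem_four (memE.1 (show ((⟨x, hES x.2⟩ : S) : Ω) ∈ E from x.2))) :)
  have h4 : Nat.card E = 4 := by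
    rw [Nat.card_congr (E₀.equivMapOfInjective _ S.subtype_injective).toEquiv.symm,
      card_four ha hb hab ha1 hb1 hne]
  obtain ⟨β, hβ, htrans⟩ := exists_three_cycle hsqE h4 (F.autGroup E) hmove
  obtain ⟨φ, hφ⟩ := exists_extend_centralizer hS hF hES hEn hEc hβ
  let ι : Subgroup.centralizer (E₀ : Set S) ≃* centralizerIn S E :=
    { toFun := fun x => ⟨((x : S) : Ω), mem_centralizerIn.2 ⟨(x : S).2, fun y hy =>
        congrArg Subtype.val (Subgroup.mem_centralizer_iff.1 x.2 ⟨y, hES hy⟩ (memE.1 hy))⟩⟩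
      invFun := fun x => ⟨⟨x, (mem_centralizerIn.1 x.2).1⟩, Subgroup.mem_centralizer_iff.2 fun y hy =>
        Subtype.ext ((mem_centralizerIn.1 x.2).2 y (memE.2 hy))⟩
      left_inv := fun x => rfl
      right_inv := fun x => rfl
      map_mul' := fun x y => rfl }
  refine ⟨MulAut.congr ι.symm φ, fun x y hx hx1 hy hy1 => ?_⟩
  obtain ⟨k, hk⟩ := htrans ⟨((x : S) : Ω), memE.2 hx⟩ ⟨((y : S) : Ω), memE.2 hy⟩
    (fun h => hx1 (Subtype.ext (Subtype.ext (congrArg Subtype.val h :))))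
    (fun h => hy1 (Subtype.ext (Subtype.ext (congrArg Subtype.val h :))))
  have hpow : ∀ (n : ℕ) (w : E), ((φ ^ n) ⟨w, hEc w.2⟩ : Ω) = ((β ^ n) w : Ω) := by
    intro n
    induction n with
    | zero => intro w; rfl
    | succ n ih =>
      intro w
      rw [pow_succ, pow_succ, MulAut.mul_apply, MulAut.mul_apply, ← ih (β w)]
      exact congrArg (fun u => (((φ ^ n) u : centralizerIn S E) : Ω)) (Subtype.ext (hφ w _))
  refine ⟨k, ?_⟩
  rw [← map_pow]
  refine ι.injective (Subtype.ext ?_)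
  show ((ι (ι.symm ((φ ^ k) (ι x))) : centralizerIn S E) : Ω) = ((y : S) : Ω)
  rw [MulEquiv.apply_symm_apply]
  exact (hpow k ⟨((x : S) : Ω), memE.2 hx⟩).trans (congrArg Subtype.val hk)

theorem exists_two_involutions {T : Type*} [Group T] (hr1 : ¬ Cfsg.PRankLE 2 1 T) :
    ∃ a b : T, a * a = 1 ∧ b * b = 1 ∧ a * b = b * a ∧ a ≠ 1 ∧ b ≠ 1 ∧ a ≠ b := by
  unfold Cfsg.PRankLE at hr1
  push Not at hr1
  obtain ⟨A, hA, hA2, hlt⟩ := hr1
  haveI : Finite A := Nat.finite_of_card_ne_zero (by omega)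
  haveI : Nontrivial A := Finite.one_lt_card_iff_nontrivial.1 (by omega)
  obtain ⟨a, ha⟩ := exists_ne (1 : A)
  have hex : ∃ b : A, b ≠ 1 ∧ b ≠ a := by
    classical
    letI : Fintype A := Fintype.ofFinite _
    by_contra h
    push Not at h
    have hs : (Finset.univ : Finset A) ⊆ {1, a} := fun b _ => by
      by_cases hb : b = 1
      · simp [hb]
      · simp [h b hb]
    have := Finset.card_le_card hs
    rw [Finset.card_univ, ← Nat.card_eq_fintype_card, Finset.card_pair (Ne.symm ha)] at this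
    omega
  obtain ⟨b, hb, hba⟩ := hex
  exact ⟨a, b, by rw [← pow_two]; exact hA2 a a.2, by rw [← pow_two]; exact hA2 b b.2,
    congrArg Subtype.val (hA.is_comm.comm a b), fun h => ha (Subtype.ext h), fun h => hb (Subtype.ext h),
    fun h => hba (Subtype.ext h.symm)⟩

/-- A normal four-group, unless `S` has maximal class. -/
theorem exists_normal_four {T : Type*} [Group T] [Finite T] (hT : IsPGroup 2 T)
    (hr1 : ¬ Cfsg.PRankLE 2 1 T) {z : T} (huniq : ∀ c ∈ Subgroup.center T, c * c = 1 → c ≠ 1 → c = z)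
    (h2 : Cfsg.PRankLE 2 2 T) :
    ((∃ n : ℕ, 2 ≤ n ∧ Nonempty (T ≃* DihedralGroup n)) ∨ Cfsg.IsQuasiDihedral T) ∨
      ∃ (v : T) (hv : v * v = 1) (hz : z * z = 1) (hzv : z * v = v * z),
        z ∈ Subgroup.center T ∧ z ≠ 1 ∧ v ≠ 1 ∧ z ≠ v ∧ (four hz hv hzv).Normal := by
  classical
  haveI : Fact (Nat.Prime 2) := ⟨Nat.prime_two⟩
  obtain ⟨a, b, ha, hb, hab, ha1, hb1, hne⟩ := exists_two_involutions hr1
  by_cases hn : ∀ A : Subgroup T, A.Normal → IsMulCommutative A → IsCyclic A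
  · have hB : ¬ IsCyclic (four ha hb hab) := fun hc => by
      obtain ⟨g, hg⟩ := hc.exists_generator
      have h4 := card_four ha hb hab ha1 hb1 hne
      have ho : orderOf g ≤ 2 := Nat.le_of_dvd two_pos (orderOf_dvd_of_pow_eq_one
        (Subtype.ext (by simpa [pow_two] using sq_of_mem_four g.2)))
      rw [orderOf_eq_card_of_forall_mem_zpowers hg, h4] at ho
      omega
    have hBc : IsMulCommutative (four ha hb hab) := ⟨⟨fun x y => Subtype.ext (by
      have h1 := sq_of_mem_four ((four ha hb hab).mul_mem x.2 y.2)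
      show (x : T) * y = y * x
      calc (x : T) * y = ((x : T) * y)⁻¹ := (inv_eq_of_mul_eq_one_right h1).symm
        _ = _ := by
          rw [mul_inv_rev, inv_eq_of_mul_eq_one_right (sq_of_mem_four x.2),
            inv_eq_of_mul_eq_one_right (sq_of_mem_four y.2)])⟩⟩
    obtain ⟨-, ⟨m, ⟨e⟩⟩ | ⟨m, hm, he⟩ | h⟩ :=
      Cfsg.Agent.S0519.result 2 hT hn ⟨_, hBc, hB⟩
    · exfalso
      haveI : NeZero m := ⟨fun h => by
        subst h
        haveI : Finite (QuaternionGroup 0) := Finite.of_equiv T e.toEquiv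
        haveI : Infinite (ZMod (2 * 0)) := inferInstanceAs (Infinite ℤ)
        haveI : Infinite (QuaternionGroup 0) := Infinite.of_injective QuaternionGroup.a fun i j h =>
          QuaternionGroup.a.inj h
        exact not_finite (QuaternionGroup 0)⟩
      have h' : ∀ {q : T}, q * q = 1 → e q * e q = 1 := fun {q} hq => by rw [← map_mul, hq, map_one]
      exact hne (e.injective (CfsgLib.TwoGroups.quaternionGroup_unique_invol _ _ (h' ha)
        (fun h => ha1 (e.map_eq_one_iff.1 h)) (h' hb) (fun h => hb1 (e.map_eq_one_iff.1 h))))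
    · exact Or.inl (Or.inl ⟨m, by omega, he⟩)
    · exact Or.inl (Or.inr h)
  push Not at hn
  obtain ⟨A, hAn, hAc, hAnc⟩ := hn
  have hAcomm : ∀ x y : A, x * y = y * x := fun x y => hAc.is_comm.comm x y
  obtain ⟨p, q, hp, hq, hpq⟩ : ∃ p q : A, orderOf p = 2 ∧ orderOf q = 2 ∧ p ≠ q := by
    by_contra h
    push Not at h
    exact hAnc (CfsgLib.Small.isCyclic_of_unique_invol (hT.to_subgroup A) hAcomm h)
  -- the involutions of `A` form a normal subgroup
  let W : Subgroup T :=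
    { carrier := {x | x ∈ A ∧ x * x = 1}
      one_mem' := ⟨A.one_mem, one_mul 1⟩
      mul_mem' := fun {x y} hx hy => ⟨A.mul_mem hx.1 hy.1,
        comm_of_invol hx.2 hy.2 (congrArg Subtype.val (hAcomm ⟨x, hx.1⟩ ⟨y, hy.1⟩))⟩
      inv_mem' := fun {x} hx => ⟨A.inv_mem hx.1, by rw [← mul_inv_rev, hx.2, inv_one]⟩ }
  haveI hWn : W.Normal := ⟨fun x hx g => ⟨hAn.conj_mem x hx.1 g, by
    calc g * x * g⁻¹ * (g * x * g⁻¹) = g * (x * x) * g⁻¹ := by group
      _ = 1 := by rw [hx.2]; group⟩⟩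
  have sqA : ∀ {w : A}, orderOf w = 2 → (w : T) ∈ W ∧ (w : T) ≠ 1 := fun {w} hw =>
    ⟨⟨w.2, congrArg Subtype.val (show w * w = 1 by rw [← pow_two, ← hw, pow_orderOf_eq_one])⟩,
      fun h => by rw [show w = 1 from Subtype.ext h, orderOf_one] at hw; omega⟩
  have hWne : W ≠ ⊥ := fun h => (sqA hp).2 (Subgroup.mem_bot.1 (h ▸ (sqA hp).1))
  obtain ⟨c, hcW, hcc, hc2, hc1⟩ := exists_involution_center hT W hWne
  obtain rfl := huniq c hcc hc2 hc1
  obtain ⟨v, hvW, hv1, hvc⟩ : ∃ v ∈ W, v ≠ 1 ∧ v ≠ c := by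
    by_cases h : (p : T) = c
    · exact ⟨q, (sqA hq).1, (sqA hq).2, fun e => hpq (Subtype.ext (h.trans e.symm))⟩
    · exact ⟨p, (sqA hp).1, (sqA hp).2, h⟩
  have hcv : c * v = v * c := (Subgroup.mem_center_iff.1 hcc v).symm
  refine Or.inr ⟨v, hvW.2, hc2, hcv, hcc, hc1, hv1, Ne.symm hvc, ⟨fun x hx g => ?_⟩⟩
  have hxW : x ∈ W := by
    rcases mem_four.1 hx with rfl | rfl | rfl | rfl
    exacts [W.one_mem, hcW, hvW, W.mul_mem hcW hvW]
  have hgx := hWn.conj_mem x hxW g
  exact mem_four.2 (four_cases hT h2 hc2 hvW.2 hgx.2 hcv (Subgroup.mem_center_iff.1 hcc _)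
    (congrArg Subtype.val (hAcomm ⟨_, hgx.1⟩ ⟨v, hvW.1⟩)) hc1 hv1 (Ne.symm hvc))

/-- If `S` has a non-central normal four-group, the classification by its centraliser. -/
theorem of_normal_four (hS : IsPGroup 2 S) (hF : F.IsSaturated 2) (hr2 : Cfsg.PRankLE 2 2 S)
    (hZ : F.center = ⊥) {z v : S} (hz : z * z = 1) (hv : v * v = 1) (hzv : z * v = v * z)
    (hzc : z ∈ Subgroup.center S) (hz1 : z ≠ 1) (hv1 : v ≠ 1) (hne : z ≠ v)
    (huniq : ∀ c ∈ Subgroup.center S, c * c = 1 → c ≠ 1 → c = z) (hn : (four hz hv hzv).Normal) :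
    Cfsg.IsWreathed S ∨ (∃ m : ℕ, 2 ≤ m ∧ Nonempty (↥S ≃* DihedralGroup m)) ∨ Cfsg.IsQuasiDihedral S := by
  classical
  haveI : Fact (Nat.Prime 2) := ⟨Nat.prime_two⟩
  set E₀ := four hz hv hzv with hE₀
  set C := Subgroup.centralizer (E₀ : Set S) with hCdef
  have hzS : ∀ g : S, g * z = z * g := fun g => Subgroup.mem_center_iff.1 hzc g
  have hvnc : v ∉ Subgroup.center S := fun h => hne (huniq v h hv hv1).symm
  obtain ⟨s, hs⟩ : ∃ s : S, s * v * s⁻¹ ≠ v := by
    by_contra h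
    push Not at h
    exact hvnc (Subgroup.mem_center_iff.2 fun g => mul_inv_eq_iff_eq_mul.1 (h g))
  have hsv : ∀ g : S, g * v * g⁻¹ ≠ v → g * v * g⁻¹ = z * v := fun g hg => by
    rcases mem_four.1 (hn.conj_mem v (mem_four.2 (Or.inr (Or.inr (Or.inl rfl)))) g) with e | e | e | e
    · exact absurd (conj_eq_one_iff.1 e) hv1
    · refine absurd ?_ hne.symm
      rw [mul_inv_eq_iff_eq_mul, ← hzS g] at e
      exact mul_left_cancel e
    · exact absurd e hg
    · exact e
  have memC : ∀ g : S, g ∈ C ↔ g * v * g⁻¹ = v := fun g => by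
    refine ⟨fun h => ?_, fun h => Subgroup.mem_centralizer_iff.2 fun y hy => ?_⟩
    · rw [← Subgroup.mem_centralizer_iff.1 h v (mem_four.2 (Or.inr (Or.inr (Or.inl rfl)))),
        mul_inv_cancel_right]
    · rw [mul_inv_eq_iff_eq_mul] at h
      rcases mem_four.1 hy with rfl | rfl | rfl | rfl
      · simp
      · exact (hzS g).symm
      · exact h.symm
      · rw [mul_assoc, ← h, ← mul_assoc, ← hzS g, mul_assoc]
  have hgzv : ∀ g : S, g * v * g⁻¹ ≠ v → g * (z * v) * g⁻¹ = v := fun g hg => by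
    calc g * (z * v) * g⁻¹ = g * z * g⁻¹ * (g * v * g⁻¹) := by group
      _ = v := by rw [hzS g, mul_inv_cancel_right, hsv g hg, ← mul_assoc, hz, one_mul]
  have hidx : C.index = 2 := by
    rw [Subgroup.index_eq_two_iff]
    refine ⟨s, fun g => ?_⟩
    have hgs : g * s * v * (g * s)⁻¹ = g * (z * v) * g⁻¹ := by
      rw [← hsv s hs]; group
    by_cases hg : g ∈ C
    · refine Or.inr ⟨hg, fun h => ?_⟩
      rw [memC, hgs] at h
      refine hz1 ?_
      have h' : g * z * g⁻¹ * (g * v * g⁻¹) = v := Eq.trans (by group) h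
      rw [(memC g).1 hg, hzS g, mul_inv_cancel_right] at h'
      exact mul_eq_right.1 h'
    · refine Or.inl ⟨?_, hg⟩
      rw [memC, hgs]
      exact hgzv g fun h => hg ((memC g).2 h)
  have hEC : ∀ x ∈ E₀, x ∈ C := fun x hx => by
    rw [memC]
    rcases mem_four.1 hx with rfl | rfl | rfl | rfl
    · simp
    · rw [hzv, mul_inv_cancel_right]
    · group
    · rw [mul_assoc z v v, hv, mul_one, mul_inv_rev, inv_eq_of_mul_eq_one_right hv,
        inv_eq_of_mul_eq_one_right hz, ← mul_assoc, hzv, mul_assoc, hz, mul_one]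
  -- involutions of `C` lie in the four-group
  have hCinv : ∀ c : S, c ∈ C → c * c = 1 → c ∈ E₀ := fun c hc hc2 =>
    mem_four.2 (four_cases hS hr2 hz hv hc2 hzv (hzS c)
      (mul_inv_eq_iff_eq_mul.1 ((memC c).1 hc)) hz1 hv1 hne)
  obtain ⟨Q, α, hQc, hα, hzQ, hαz⟩ := exists_moving hS hF hZ (z := (z : Ω)) z.2
    (fun g hg => congrArg Subtype.val (hzS ⟨g, hg⟩)) (fun h => hz1 (Subtype.ext h))
  have hQS := hQc.1
  set tQ : Q := α ⟨(z : Ω), hzQ⟩ with htQ
  set t : S := ⟨(tQ : Ω), hQS tQ.2⟩ with ht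
  have hzQc : ∀ x : Q, x * ⟨(z : Ω), hzQ⟩ = ⟨(z : Ω), hzQ⟩ * x := fun x =>
    Subtype.ext (congrArg Subtype.val (hzS ⟨x, hQS x.2⟩) :)
  have htc : ∀ x : S, (x : Ω) ∈ Q → x * t = t * x := fun x hx => by
    obtain ⟨x', hx'⟩ := α.surjective ⟨x, hx⟩
    have h := congrArg α (hzQc x')
    rw [map_mul, map_mul, hx'] at h
    exact Subtype.ext (congrArg Subtype.val h :)
  have ht2 : t * t = 1 := Subtype.ext (by
    have h : tQ * tQ = 1 := by
      rw [htQ, ← map_mul, show (⟨(z : Ω), hzQ⟩ : Q) * ⟨(z : Ω), hzQ⟩ = 1 from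
        Subtype.ext (congrArg Subtype.val hz :), map_one]
    exact (congrArg Subtype.val h :))
  have ht1 : t ≠ 1 := fun h => hz1 (Subtype.ext (congrArg Subtype.val (α.map_eq_one_iff.1
    (show tQ = 1 from Subtype.ext (congrArg Subtype.val h :))) :))
  have htz : t ≠ z := fun h => hαz (Subtype.ext (congrArg Subtype.val h :))
  have hV : ∀ x : S, (x : Ω) ∈ Q → x * x = 1 → x = 1 ∨ x = z ∨ x = t ∨ x = z * t := fun x hx hx2 =>
    four_cases hS hr2 hz ht2 hx2 (hzS t).symm (hzS x) (htc x hx) hz1 ht1 htz.symm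
  by_cases htE : t ∈ E₀
  · -- the moving automorphism acts on the four-group
    have hinQ : ∀ x ∈ E₀, ((x : S) : Ω) ∈ Q := by
      have htQ' : ((t : S) : Ω) ∈ Q := tQ.2
      have hvQ : ((v : S) : Ω) ∈ Q := by
        rcases mem_four.1 htE with e | e | e | e
        · exact absurd e ht1
        · exact absurd e htz
        · exact e ▸ htQ'
        · have e' : v = z * t := by rw [e, ← mul_assoc, hz, one_mul]
          rw [e']; exact Q.mul_mem hzQ htQ'
      intro x hx
      rcases mem_four.1 hx with rfl | rfl | rfl | rfl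
      exacts [Q.one_mem, hzQ, hvQ, Q.mul_mem hzQ hvQ]
    set E : Subgroup Ω := E₀.map S.subtype with hE
    have hEQ : E ≤ Q := by
      rintro _ ⟨x, hx, rfl⟩
      exact hinQ x hx
    have hVE : ∀ x : S, (x : Ω) ∈ Q → x * x = 1 → x ∈ E₀ := fun x hx hx2 => by
      rcases hV x hx hx2 with rfl | rfl | rfl | rfl
      · exact E₀.one_mem
      · exact mem_four.2 (Or.inr (Or.inl rfl))
      · exact htE
      · exact E₀.mul_mem (mem_four.2 (Or.inr (Or.inl rfl))) htE
    obtain ⟨β, hβ, hβα⟩ := exists_restrict_aut (F := F) hQS hα hEQ (fun x hx => by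
      obtain ⟨x', hx', hxx⟩ := hx
      have h2 : (α x) * (α x) = 1 := by
        rw [← map_mul, show x * x = 1 from Subtype.ext (by
          show (x : Ω) * x = 1
          rw [← hxx]; exact congrArg Subtype.val (sq_of_mem_four hx')), map_one]
      exact ⟨⟨(α x : Ω), hQS (α x).2⟩, hVE _ (α x).2 (Subtype.ext (congrArg Subtype.val h2 :)), rfl⟩)
    have hEn : ∀ g : S, (g : Ω) ∈ Subgroup.normalizer (E : Set Ω) := fun g => by
      rw [Subgroup.mem_normalizer_iff]
      intro x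
      constructor
      · rintro ⟨y, hy, rfl⟩
        exact ⟨g * y * g⁻¹, hn.conj_mem y hy _, rfl⟩
      · rintro ⟨y, hy, hxy⟩
        refine ⟨g⁻¹ * y * g⁻¹⁻¹, hn.conj_mem y hy _, ?_⟩
        simp only [map_mul, map_inv, Subgroup.coe_subtype] at hxy ⊢
        rw [hxy]
        group
    have hmove : ∀ x : E, x ≠ 1 → ∃ β ∈ F.autGroup E, β x ≠ x := by
      rintro ⟨_, y, hy, rfl⟩ hx1
      have hy1 : y ≠ 1 := fun h => by subst h; exact hx1 (Subtype.ext rfl)
      by_cases hyz : y = z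
      · refine ⟨β, hβ, fun h => hαz (Subtype.ext ?_)⟩
        have h' := (hβα _).symm.trans (congrArg Subtype.val h)
        subst hyz
        exact h'
      · refine ⟨E.normalizerMonoidHom ⟨s, hEn s⟩, autInducedBy_le_autGroup (Subgroup.map_subtype_le _)
          (mem_autInducedBy_iff.2 ⟨s, s.2, hEn s, fun _ => rfl⟩), fun h => ?_⟩
        have h' : s * y * s⁻¹ = y := Subtype.ext (congrArg Subtype.val h :)
        rcases mem_four.1 hy with rfl | rfl | rfl | rfl
        · exact hy1 rfl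
        · exact hyz rfl
        · exact hs h'
        · rw [hgzv s hs] at h'
          exact hz1 (mul_eq_right.1 h'.symm)
    obtain ⟨φ, hφ⟩ := exists_aut_centralizer hS hF hz hv hzv hz1 hv1 hne hn hmove
    have hinvC : ∀ x : C, x * x = 1 → (x : S) ∈ E₀ := fun x hx =>
      hCinv x x.2 (congrArg Subtype.val hx)
    refine wreathed_or_small hS C hidx hzc (hEC z (mem_four.2 (Or.inr (Or.inl rfl)))) hz hz1
      (hEC v (mem_four.2 (Or.inr (Or.inr (Or.inl rfl))))) hv hv1 hs ?_ φ
      fun a b ha ha2 hb hb2 => hφ a b (hinvC a ha2) ha (hinvC b hb2) hb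
    rw [← card_four hz hv hzv hz1 hv1 hne]
    exact Nat.card_congr
      { toFun := fun x => ⟨x.1, hinvC x.1 x.2⟩
        invFun := fun x => ⟨⟨x.1, hEC x.1 x.2⟩, Subtype.ext (sq_of_mem_four x.2)⟩
        left_inv := fun x => rfl
        right_inv := fun x => rfl }
  · -- the centraliser of `t` has order four
    have htC : t ∉ C := fun h => htE (hCinv t h ht2)
    have hQ2 : ∀ x : S, (x : Ω) ∈ Q → x * x = 1 := by
      have hroot : ∀ x : S, (x : Ω) ∈ Q → (x * x) * (x * x) = 1 → x * x ≠ 1 → x * x = z := by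
        intro x hx h4 hne1
        obtain ⟨x', hx'C, hx'Q, hxx⟩ : ∃ x' : S, x' ∈ C ∧ (x' : Ω) ∈ Q ∧ x' * x' = x * x := by
          by_cases hxC : x ∈ C
          · exact ⟨x, hxC, hx, rfl⟩
          · refine ⟨x * t, (Subgroup.mul_mem_iff_of_index_two hidx).2
              ⟨fun h => absurd h hxC, fun h => absurd h htC⟩, Q.mul_mem hx tQ.2, ?_⟩
            rw [(show Commute t x from (htc x hx).symm).mul_mul_mul_comm, ht2, mul_one]
        have hm : x * x ∈ E₀ := hCinv _ (hxx ▸ C.mul_mem hx'C hx'C) h4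
        have hct : x * x * t = t * (x * x) := htc _ (Q.mul_mem hx hx)
        have htv : t * v * t⁻¹ ≠ v := fun h => htC ((memC t).2 h)
        rcases mem_four.1 hm with e | e | e | e
        · exact absurd e hne1
        · exact e
        · rw [e] at hct
          exact absurd (by rw [← hct, mul_inv_cancel_right]) htv
        · rw [e] at hct
          refine absurd (hgzv t htv) ?_
          rw [← hct, mul_inv_cancel_right]
          exact fun h => hz1 (mul_eq_right.1 h)
      by_contra h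
      push Not at h
      obtain ⟨y, hy, hy2⟩ := h
      have hpow : ∀ (m : ℕ) (x : S), (x : Ω) ∈ Q → x ^ 2 ^ m = 1 → x * x ≠ 1 →
          ∃ w : S, (w : Ω) ∈ Q ∧ w * w * (w * w) = 1 ∧ w * w ≠ 1 := by
        intro m
        induction m with
        | zero => intro x _ h h'; rw [pow_zero, pow_one] at h; simp [h] at h'
        | succ m ih =>
          intro x hx h h'
          by_cases h4 : x * x * (x * x) = 1
          · exact ⟨x, hx, h4, h'⟩
          · exact ih (x * x) (Q.mul_mem hx hx) (by rw [← pow_two, ← pow_mul, ← pow_succ']; exact h) h4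
      obtain ⟨m, hm⟩ := hS y
      obtain ⟨w, hw, hw4, hw2⟩ := hpow m y hy hm hy2
      have hwz := hroot w hw hw4 hw2
      set w' : S := ⟨(α ⟨(w : Ω), hw⟩ : Ω), hQS (α _).2⟩ with hw'
      have hw't : w' * w' = t := Subtype.ext (by
        have : α ⟨(w : Ω), hw⟩ * α ⟨(w : Ω), hw⟩ = tQ := by
          rw [← map_mul, htQ]
          exact congrArg α (Subtype.ext (congrArg Subtype.val hwz :))
        exact (congrArg Subtype.val this :))
      exact htz (hw't ▸ hroot w' (α _).2 (by rw [hw't, ht2]) (by rw [hw't]; exact ht1))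
    have hcent : Nat.card (Subgroup.centralizer ({t} : Set S)) = 4 := by
      rw [← card_four hz ht2 (hzS t).symm hz1 ht1 htz.symm]
      refine congrArg (fun H : Subgroup S => Nat.card H) ?_
      ext x
      rw [Subgroup.mem_centralizer_singleton_iff, mem_four]
      constructor
      · intro hx
        have hxQ : (x : Ω) ∈ Q := centralizerIn_le_of_centric hQc (mem_centralizerIn.2 ⟨x.2,
          fun y hy => by
            have hy2 := hQ2 ⟨y, hQS hy⟩ hy
            have hcm : (⟨y, hQS hy⟩ : S) * x = x * ⟨y, hQS hy⟩ := by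
              rcases hV ⟨y, hQS hy⟩ hy hy2 with e | e | e | e <;> rw [e]
              · simp
              · exact (hzS x).symm
              · exact hx.symm
              · rw [mul_assoc, ← hx, ← mul_assoc, ← hzS x, mul_assoc]
            exact (congrArg Subtype.val hcm :)⟩)
        exact hV x hxQ (hQ2 x hxQ)
      · rintro (rfl | rfl | rfl | rfl)
        · simp
        · exact (hzS t).symm
        · rfl
        · rw [mul_assoc, ← mul_assoc t z t, hzS t, mul_assoc]
    rcases Cfsg.Agent.S3224.result hS t (orderOf_eq_prime (by rw [pow_two, ht2]) ht1) hcent with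
      ⟨m, ⟨e⟩⟩ | h | h
    · refine Or.inr (Or.inl ⟨m, ?_, ⟨e⟩⟩)
      have hc := Nat.card_congr e.toEquiv
      rw [DihedralGroup.nat_card] at hc
      have := hcent ▸ Nat.le_of_dvd Nat.card_pos (Subgroup.card_subgroup_dvd_card (Subgroup.centralizer ({t} : Set S)))
      omega
    · exact Or.inr (Or.inr h)
    · refine absurd ?_ hs
      rw [(IsPGroup.isMulCommutative_of_card_eq_prime_sq (p := 2) (by rw [h]; norm_num : Nat.card S = 2 ^ 2)).is_comm.comm s v, mul_inv_cancel_right]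

universe w in
/-- **Saturated fusion systems with trivial centre on 2-groups of rank two.** -/
theorem classify {Ω : Type w} [Group Ω] {S : Subgroup Ω} [Finite S] {F : FusionSystem S}
    (hS : IsPGroup 2 S) (hF : F.IsSaturated 2) (hr2 : Cfsg.PRankLE 2 2 S) (hr1 : ¬ Cfsg.PRankLE 2 1 S)
    (hZ : F.center = ⊥) {K : Type*} [Field K] [Fintype K] (hK : Fintype.card K = 16)
    (P : Sylow 2 (Cfsg.PSU 3 K 4)) :
    (∃ m : ℕ, 2 ≤ m ∧ Nonempty (↥S ≃* DihedralGroup m)) ∨ Cfsg.IsQuasiDihedral S ∨ Cfsg.IsWreathed S ∨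
      (∃ n : ℕ, 2 ≤ n ∧ Nonempty (↥S ≃* Multiplicative (ZMod (2 ^ n) × ZMod (2 ^ n)))) ∨
        Nonempty (↥S ≃* (P : Subgroup (Cfsg.PSU 3 K 4))) := by
  classical
  haveI : Fact (Nat.Prime 2) := ⟨Nat.prime_two⟩
  obtain ⟨a, b, ha, hb, hab, ha1, hb1, hne⟩ := exists_two_involutions hr1
  haveI : Nontrivial S := ⟨⟨a, 1, ha1⟩⟩
  obtain ⟨z, -, hzc, hz, hz1⟩ := exists_involution_center hS ⊤ (fun h => top_ne_bot h)
  by_cases huniq : ∀ c ∈ Subgroup.center S, c * c = 1 → c ≠ 1 → c = z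
  · rcases exists_normal_four hS hr1 huniq hr2 with h | ⟨v, hv, hz', hzv, -, -, hv1, hzv', hn⟩
    · rcases h with h | h
      exacts [Or.inl h, Or.inr (Or.inl h)]
    · rcases of_normal_four hS hF hr2 hZ hz' hv hzv hzc hz1 hv1 hzv' huniq hn with h | h | h
      exacts [Or.inr (Or.inr (Or.inl h)), Or.inl h, Or.inr (Or.inl h)]
  -- all involutions are central
  push Not at huniq
  obtain ⟨u, huc, hu, hu1, huz⟩ := huniq
  have hzu : z * u = u * z := (Subgroup.mem_center_iff.1 hzc u).symm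
  set E₀ := four hz hu hzu with hE₀
  have hinv : ∀ x : S, x * x = 1 → x ∈ E₀ := fun x hx =>
    mem_four.2 (four_cases hS hr2 hz hu hx hzu (Subgroup.mem_center_iff.1 hzc x)
      (Subgroup.mem_center_iff.1 huc x) hz1 hu1 (Ne.symm huz))
  have hEc : ∀ x ∈ E₀, x ∈ Subgroup.center S := fun x hx => by
    rcases mem_four.1 hx with rfl | rfl | rfl | rfl
    exacts [one_mem _, hzc, huc, mul_mem hzc huc]
  have hn : E₀.Normal := ⟨fun x hx g => by
    rw [Subgroup.mem_center_iff.1 (hEc x hx) g, mul_inv_cancel_right]; exact hx⟩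
  have hCtop : Subgroup.centralizer (E₀ : Set S) = ⊤ := eq_top_iff.2 fun g _ =>
    Subgroup.mem_centralizer_iff.2 fun x hx => (Subgroup.mem_center_iff.1 (hEc x hx) g).symm
  have hmove : ∀ x : (E₀.map S.subtype : Subgroup Ω), x ≠ 1 →
      ∃ β ∈ F.autGroup (E₀.map S.subtype), β x ≠ x := by
    rintro ⟨_, y, hy, rfl⟩ hx1
    have hy1 : y ≠ 1 := fun h => by subst h; exact hx1 (Subtype.ext rfl)
    have hyc := hEc y hy
    obtain ⟨Q, α, hQc, hα, hyQ, hαy⟩ := exists_moving hS hF hZ (z := (y : Ω)) y.2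
      (fun g hg => congrArg Subtype.val (Subgroup.mem_center_iff.1 hyc ⟨g, hg⟩))
      (fun h => hy1 (Subtype.ext h))
    have hEQ : E₀.map S.subtype ≤ Q := by
      rintro _ ⟨x, hx, rfl⟩
      exact centralizerIn_le_of_centric hQc (mem_centralizerIn.2 ⟨x.2, fun q hq =>
        congrArg Subtype.val (Subgroup.mem_center_iff.1 (hEc x hx) ⟨q, hQc.1 hq⟩)⟩)
    obtain ⟨β, hβ, hβα⟩ := exists_restrict_aut (F := F) hQc.1 hα hEQ (fun x hx => by
      obtain ⟨x', hx', hxx⟩ := hx
      have h2 : α x * α x = 1 := by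
        rw [← map_mul, show x * x = 1 from Subtype.ext (by
          show (x : Ω) * x = 1
          rw [← hxx]; exact congrArg Subtype.val (sq_of_mem_four hx')), map_one]
      exact ⟨⟨(α x : Ω), hQc.1 (α x).2⟩, hinv _ (Subtype.ext (congrArg Subtype.val h2 :)), rfl⟩)
    exact ⟨β, hβ, fun h => hαy (Subtype.ext ((hβα _).symm.trans (congrArg Subtype.val h)))⟩
  obtain ⟨φ, hφ⟩ := exists_aut_centralizer hS hF hz hu hzu hz1 hu1 (Ne.symm huz) hn hmove
  let e : S ≃* Subgroup.centralizer (E₀ : Set S) :=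
    (Subgroup.topEquiv.symm.trans (MulEquiv.subgroupCongr hCtop.symm))
  have htrans : ∀ s t : S, orderOf s = 2 → orderOf t = 2 → ∃ k : ℕ, ((MulAut.congr e.symm φ) ^ k) s = t := by
    intro s t hs ht
    have key : ∀ {x : S}, orderOf x = 2 → x ∈ E₀ ∧ e x ≠ 1 := fun {x} hx =>
      ⟨hinv x (by rw [← pow_two, ← hx, pow_orderOf_eq_one]),
        fun h => by rw [e.map_eq_one_iff.1 h, orderOf_one] at hx; omega⟩
    obtain ⟨k, hk⟩ := hφ (e s) (e t) (key hs).1 (key hs).2 (key ht).1 (key ht).2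
    refine ⟨k, ?_⟩
    rw [← map_pow]
    show e.symm ((φ ^ k) (e s)) = t
    rw [hk, MulEquiv.symm_apply_apply]
  rcases Cfsg.Agent.S1237.result hS hr2 hr1 (MulAut.congr e.symm φ) htrans hK P with ⟨n, hn1, ⟨f⟩⟩ | h
  · by_cases hn2 : 2 ≤ n
    · exact Or.inr (Or.inr (Or.inr (Or.inl ⟨n, hn2, ⟨f⟩⟩)))
    have hn' : n = 1 := by omega
    subst hn'
    haveI : IsKleinFour S := by
      have hc : Nat.card S = 4 := by
        rw [Nat.card_congr f.toEquiv, Nat.card_congr Multiplicative.toAdd, Nat.card_prod, Nat.card_zmod]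
        norm_num
      refine ⟨hc, ?_⟩
      rw [Monoid.exponent_eq_of_mulEquiv f]
      refine Monoid.exponent_eq_prime_iff ?_ |>.2 ?_
      · exact Nat.prime_two
      · intro g hg
        refine orderOf_eq_prime ?_ hg
        refine Multiplicative.toAdd.injective ?_
        rw [toAdd_pow, toAdd_one]
        refine Prod.ext ?_ ?_ <;>
          simp only [Prod.smul_fst, Prod.smul_snd, Prod.fst_zero, Prod.snd_zero, two_nsmul] <;>
          exact CharTwo.add_self_eq_zero (R := ZMod 2) _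
    exact Or.inl ⟨2, le_rfl, IsKleinFour.nonempty_mulEquiv⟩
  · exact Or.inr (Or.inr (Or.inr (Or.inr h)))

end CfsgLib.Classification.RankTwoFusion
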