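import Cfsg.Agent.FusionMetaSuper.Models
import Cfsg.Agent.FusionSub.PSLThree
import Cfsg.Agent.TwoGroups.Wreathed

/-!
Sylow 2-subgroups of `PSL(2,p)` and `PSL(3,p)`: every dihedral group of 2-power order at least 8 and
every semidihedral or wreathed group occurs.
-/

set_option autoImplicit false

namespace CfsgLib.Classification.RankTwoFusion

open Cfsg CfsgLib.TwoGroups
open scoped MatrixGroups

universe u

/-- Two wreathed triples of the same size correspond under an isomorphism. -/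
theorem exists_equiv_of_wrTriple {S S' : Type*} [Group S] [Group S'] {n : ℕ} {x y z : S}
    {x' y' z' : S'} (d : WRTriple n x y z) (d' : WRTriple n x' y' z') :
    ∃ e : S ≃* S', (∀ a b : ℤ, e (el x y a b) = el x' y' a b) ∧ e z = z' := by
  let K : Subgroup (S × S') :=
    { carrier := {g | ∃ a b : ℤ, g = (el x y a b, el x' y' a b) ∨
        g = (el x y a b * z, el x' y' a b * z')}
      one_mem' := ⟨0, 0, Or.inl (Prod.ext d.el_zero.symm d'.el_zero.symm)⟩
      mul_mem' := by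
        rintro _ _ ⟨a, b, rfl | rfl⟩ ⟨c, e, rfl | rfl⟩
        · exact ⟨a + c, b + e, Or.inl (Prod.ext (d.el_mul a b c e) (d'.el_mul a b c e))⟩
        · exact ⟨a + c, b + e, Or.inr (Prod.ext (d.el_mul_elz a b c e) (d'.el_mul_elz a b c e))⟩
        · exact ⟨a + e, b + c, Or.inr (Prod.ext (d.elz_mul_el a b c e) (d'.elz_mul_el a b c e))⟩
        · exact ⟨a + e, b + c, Or.inl (Prod.ext (d.elz_mul_elz a b c e) (d'.elz_mul_elz a b c e))⟩
      inv_mem' := by
        rintro _ ⟨a, b, rfl | rfl⟩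
        · exact ⟨-a, -b, Or.inl (Prod.ext (d.el_inv a b) (d'.el_inv a b))⟩
        · refine ⟨-b, -a, Or.inr (Prod.ext (inv_eq_of_mul_eq_one_right ?_)
            (inv_eq_of_mul_eq_one_right ?_))⟩
          · show el x y a b * z * (el x y (-b) (-a) * z) = 1
            rw [d.elz_mul_elz, add_neg_cancel, add_neg_cancel, d.el_zero]
          · show el x' y' a b * z' * (el x' y' (-b) (-a) * z') = 1
            rw [d'.elz_mul_elz, add_neg_cancel, add_neg_cancel, d'.el_zero] }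
  have hb : Function.Bijective ((MonoidHom.fst S S').comp K.subtype) := by
    refine ⟨(injective_iff_map_eq_one _).2 ?_, fun g => ?_⟩
    · rintro ⟨_, a, b, rfl | rfl⟩ h
      · exact Subtype.ext (Prod.ext h (d'.el_eq_one.2 (d.el_eq_one.1 h)))
      · exact absurd ((h : el x y a b * z = 1).trans d.el_zero.symm) (d.elz_ne_el a b 0 0)
    · obtain ⟨a, b, rfl | rfl⟩ := d.eq_cases g
      exacts [⟨⟨(_, el x' y' a b), a, b, Or.inl rfl⟩, rfl⟩,
        ⟨⟨(_, el x' y' a b * z'), a, b, Or.inr rfl⟩, rfl⟩]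
  have hb' : Function.Bijective ((MonoidHom.snd S S').comp K.subtype) := by
    refine ⟨(injective_iff_map_eq_one _).2 ?_, fun g => ?_⟩
    · rintro ⟨_, a, b, rfl | rfl⟩ h
      · exact Subtype.ext (Prod.ext (d.el_eq_one.2 (d'.el_eq_one.1 h)) h)
      · exact absurd ((h : el x' y' a b * z' = 1).trans d'.el_zero.symm) (d'.elz_ne_el a b 0 0)
    · obtain ⟨a, b, rfl | rfl⟩ := d'.eq_cases g
      exacts [⟨⟨(el x y a b, _), a, b, Or.inl rfl⟩, rfl⟩,
        ⟨⟨(el x y a b * z, _), a, b, Or.inr rfl⟩, rfl⟩]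
  have key : ∀ (g : S) (h : S') (hK : (g, h) ∈ K),
      ((MulEquiv.ofBijective _ hb).symm.trans (MulEquiv.ofBijective _ hb')) g = h := by
    intro g h hK
    show MulEquiv.ofBijective _ hb' ((MulEquiv.ofBijective _ hb).symm g) = h
    rw [show (MulEquiv.ofBijective _ hb).symm g = ⟨(g, h), hK⟩ from
      (MulEquiv.ofBijective _ hb).symm_apply_eq.2 rfl]
    rfl
  exact ⟨_, fun a b => key _ _ ⟨a, b, Or.inl rfl⟩,
    key _ _ ⟨0, 0, Or.inr (Prod.ext (by rw [d.el_zero, one_mul]) (by rw [d'.el_zero, one_mul]))⟩⟩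

/-- Two wreathed triples of the same size give isomorphic groups. -/
theorem nonempty_equiv_of_wrTriple {S S' : Type*} [Group S] [Group S'] {n : ℕ} {x y z : S}
    {x' y' z' : S'} (d : WRTriple n x y z) (d' : WRTriple n x' y' z') : Nonempty (S ≃* S') :=
  ⟨(exists_equiv_of_wrTriple d d').choose⟩

/-- A prime `q` with `2 ^ k` exactly dividing `q - 1`. -/
theorem exists_prime_two_adic_sub (k : ℕ) (hk : 1 ≤ k) :
    ∃ q o : ℕ, q.Prime ∧ Odd o ∧ q = 2 ^ k * o + 1 ∧ 2 < q := by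
  obtain ⟨q, hq2, hq, hmod⟩ := Nat.forall_exists_prime_gt_and_modEq (q := 2 ^ (k + 1))
    (a := 2 ^ k + 1) 2 (by positivity) (by
      rw [Nat.coprime_pow_right_iff (by omega), Nat.coprime_two_right, Nat.odd_iff]
      obtain ⟨j, rfl⟩ : ∃ j, k = j + 1 := ⟨k - 1, by omega⟩
      rw [pow_succ]; omega)
  have h : q % 2 ^ (k + 1) = 2 ^ k + 1 := by
    have h' : q % 2 ^ (k + 1) = (2 ^ k + 1) % 2 ^ (k + 1) := hmod
    rw [h', Nat.mod_eq_of_lt]
    have : 2 ^ 1 ≤ 2 ^ k := Nat.pow_le_pow_right two_pos hk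
    rw [pow_succ]; omega
  refine ⟨q, 2 * (q / 2 ^ (k + 1)) + 1, hq, odd_two_mul_add_one _, ?_, hq2⟩
  have h1 := Nat.div_add_mod q (2 ^ (k + 1))
  rw [h] at h1
  calc q = 2 ^ (k + 1) * (q / 2 ^ (k + 1)) + (2 ^ k + 1) := h1.symm
    _ = 2 ^ k * (2 * (q / 2 ^ (k + 1)) + 1) + 1 := by ring

theorem range_subtype_comp_equiv {A B : Type*} [Group A] [Group B] (H : Subgroup B) (e : A ≃* H) :
    (H.subtype.comp e.toMonoidHom).range = H := by
  rw [MonoidHom.range_comp, MonoidHom.range_eq_top.2 e.surjective, ← MonoidHom.range_eq_map,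
    Subgroup.range_subtype]

/-- A dihedral 2-group of order at least 8 is a Sylow subgroup of some `PSL(2,p)`. -/
theorem exists_psl_two_model {S : Type u} [Group S] [Finite S] (hS : IsPGroup 2 S) {m : ℕ}
    (hm : 3 ≤ m) (e : S ≃* DihedralGroup m) :
    ∃ (p : ℕ) (_ : Fact p.Prime), Odd p ∧ p % 8 = 7 ∧
      ∃ ι : S →* Matrix.ProjectiveSpecialLinearGroup (Fin 2) (ZMod p), Function.Injective ι ∧
        ∃ T : Sylow 2 (Matrix.ProjectiveSpecialLinearGroup (Fin 2) (ZMod p)),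
          (T : Subgroup (Matrix.ProjectiveSpecialLinearGroup (Fin 2) (ZMod p))) = ι.range := by
  haveI : Fact (Nat.Prime 2) := ⟨Nat.prime_two⟩
  obtain ⟨k, hcard⟩ := hS.exists_card_eq
  rw [Nat.card_congr e.toEquiv, DihedralGroup.nat_card] at hcard
  have hk3 : 3 ≤ k := by
    by_contra h
    have : 2 ^ k ≤ 2 ^ 2 := Nat.pow_le_pow_right two_pos (by omega)
    omega
  have hm' : m = 2 ^ (k - 1) := by
    rw [show k = k - 1 + 1 by omega, pow_succ] at hcard
    omega
  subst hm'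
  obtain ⟨q, o, hq, ho, hqo, hq2⟩ := CfsgLib.FusionMetaSuper.exists_prime_two_adic k (by omega)
  haveI : Fact q.Prime := ⟨hq⟩
  have hqodd := CfsgLib.FusionMetaSuper.odd_of_two_adic (by omega : 2 ≤ k) hqo
  have h8 : q % 8 = 7 := by
    have : 2 ^ 3 ∣ q + 1 := hqo ▸ (pow_dvd_pow 2 hk3).mul_right o
    omega
  refine ⟨q, inferInstance, hqodd, h8, ?_⟩
  have hF : Odd (Fintype.card (ZMod q)) := by rwa [ZMod.card]
  obtain ⟨r, hr, hrodd⟩ := CfsgLib.FusionMetaSuper.exists_sl_card (by omega : 2 ≤ k) ho hqo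
  obtain ⟨P⟩ : Nonempty (Sylow 2 SL(2, ZMod q)) := inferInstance
  have hPcard : Nat.card (P : Subgroup SL(2, ZMod q)) = 2 ^ (k + 1) :=
    CfsgLib.Linear.card_sylow_of_card_eq 2
      (by rw [CfsgLib.Linear.card_SL_two, ZMod.card, hr]) hrodd P
  obtain ⟨j, hj, ⟨f⟩⟩ := CfsgLib.Linear.sylow_two_quaternion hF P
  have hjk : j = k - 1 := by
    have h := Nat.card_congr f.toEquiv
    rw [hPcard, Nat.card_eq_fintype_card, QuaternionGroup.card, show (4 : ℕ) = 2 ^ 2 from rfl,
      ← pow_add] at h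
    have := Nat.pow_right_injective le_rfl h
    omega
  subst hjk
  let π : SL(2, ZMod q) →* Matrix.ProjectiveSpecialLinearGroup (Fin 2) (ZMod q) :=
    QuotientGroup.mk' _
  have hπ : Function.Surjective π := QuotientGroup.mk'_surjective _
  let φ : (P : Subgroup SL(2, ZMod q)) →* Matrix.ProjectiveSpecialLinearGroup (Fin 2) (ZMod q) :=
    π.comp (P : Subgroup SL(2, ZMod q)).subtype
  let g : (P : Subgroup SL(2, ZMod q)) →* DihedralGroup (2 ^ (k - 1)) :=
    (CfsgLib.FusionMetaSuper.quatToDihedral _).comp f.toMonoidHom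
  haveI : NeZero (2 ^ (k - 1)) := ⟨by positivity⟩
  have hker : g.ker = φ.ker := by
    ext x
    have h1 : x ∈ g.ker ↔ x ^ 2 = 1 := by
      show f x ∈ (CfsgLib.FusionMetaSuper.quatToDihedral _).ker ↔ _
      rw [CfsgLib.FusionMetaSuper.mem_ker_quatToDihedral, ← map_pow, map_eq_one_iff f f.injective]
    have h2 : x ∈ φ.ker ↔ (x : SL(2, ZMod q)) = 1 ∨ (x : SL(2, ZMod q)) = -1 :=
      CfsgLib.SL2Trace.proj_eq_one_iff _
    rw [h1, h2]
    constructor
    · intro hx
      by_cases h : (x : SL(2, ZMod q)) = 1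
      · exact Or.inl h
      · exact Or.inr (CfsgLib.Linear.eq_neg_one_of_sq hF _ h (congrArg Subtype.val hx))
    · rintro (h | h) <;> refine Subtype.ext ?_ <;> simp [h]
  have hg : Function.Surjective g :=
    (CfsgLib.FusionMetaSuper.quatToDihedral_surjective _).comp f.surjective
  let eD : DihedralGroup (2 ^ (k - 1)) ≃* φ.range :=
    ((QuotientGroup.quotientKerEquivOfSurjective g hg).symm.trans
      (QuotientGroup.quotientMulEquivOfEq hker)).trans (QuotientGroup.quotientKerEquivRange φ)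
  refine ⟨φ.range.subtype.comp (e.trans eD).toMonoidHom, ?_, P.mapSurjective hπ, ?_⟩
  · exact Subtype.val_injective.comp (e.trans eD).injective
  · rw [range_subtype_comp_equiv, MonoidHom.range_comp, Subgroup.range_subtype]
    rfl

/-- A Sylow 2-subgroup of `GL(2,F)`, `|F|` odd, embeds in `PSL(3,F)` as a Sylow 2-subgroup. -/
theorem exists_psl_three_hom {F : Type*} [Field F] [Fintype F] (hodd : Odd (Fintype.card F))
    (P : Sylow 2 (GL (Fin 2) F)) {S : Type u} [Group S] (e : S ≃* (P : Subgroup (GL (Fin 2) F))) :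
    ∃ ι : S →* Matrix.ProjectiveSpecialLinearGroup (Fin 3) F, Function.Injective ι ∧
      ∃ T : Sylow 2 (Matrix.ProjectiveSpecialLinearGroup (Fin 3) F),
        (T : Subgroup (Matrix.ProjectiveSpecialLinearGroup (Fin 3) F)) = ι.range := by
  obtain ⟨T⟩ : Nonempty (Sylow 2 (Matrix.ProjectiveSpecialLinearGroup (Fin 3) F)) := inferInstance
  obtain ⟨k, hinj, hmap⟩ := CfsgLib.FusionSub.exists_transport hodd P T
  refine ⟨((k.comp CfsgLib.FusionSub.embThree).comp (P : Subgroup (GL (Fin 2) F)).subtype).comp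
    e.toMonoidHom, ?_, T, ?_⟩
  · intro a b h
    exact e.injective (Subtype.ext (hinj (e a).2 (e b).2 h))
  · rw [← hmap, MonoidHom.range_comp, MonoidHom.range_eq_top.2 e.surjective,
      ← MonoidHom.range_eq_map, MonoidHom.range_comp, Subgroup.range_subtype]

/-- A semidihedral group is a Sylow 2-subgroup of some `PSL(3,p)`. -/
theorem exists_psl_three_model_quasiDihedral {S : Type u} [Group S]
    (hS : Cfsg.IsQuasiDihedral S) :
    ∃ (p : ℕ) (_ : Fact p.Prime), Odd p ∧ p % 4 = 3 ∧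
      ∃ ι : S →* Matrix.ProjectiveSpecialLinearGroup (Fin 3) (ZMod p), Function.Injective ι ∧
        ∃ T : Sylow 2 (Matrix.ProjectiveSpecialLinearGroup (Fin 3) (ZMod p)),
          (T : Subgroup (Matrix.ProjectiveSpecialLinearGroup (Fin 3) (ZMod p))) = ι.range := by
  haveI : Fact (Nat.Prime 2) := ⟨Nat.prime_two⟩
  obtain ⟨n, x, y, d⟩ := exists_sdPair hS
  have hn := d.le
  have hk : 2 ≤ n - 1 := by omega
  obtain ⟨q, o, hq, ho, hqo, hq2⟩ := CfsgLib.FusionMetaSuper.exists_prime_two_adic (n - 1) (by omega)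
  haveI : Fact q.Prime := ⟨hq⟩
  have hqodd := CfsgLib.FusionMetaSuper.odd_of_two_adic hk hqo
  have h4 := CfsgLib.FusionMetaSuper.mod_four_of_two_adic hk hqo
  obtain ⟨P⟩ : Nonempty (Sylow 2 (GL (Fin 2) (ZMod q))) := inferInstance
  obtain ⟨m, hm⟩ : ∃ m, q = 2 * m + 1 := id hqodd
  have hcard : Nat.card (GL (Fin 2) (ZMod q)) = 2 ^ (n + 1) * (q * o * (m * m)) := by
    rw [Matrix.card_GL_field, Fin.prod_univ_two, ZMod.card]
    simp only [Fin.val_zero, pow_zero, Fin.val_one, pow_one]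
    rw [show n + 1 = n - 1 + 2 by omega, pow_add]
    have h1 : q ^ 2 - 1 = (q + 1) * (2 * m) := Nat.sub_eq_of_eq_add (by rw [hm]; ring)
    have h2 : q ^ 2 - q = q * (2 * m) := Nat.sub_eq_of_eq_add (by rw [hm]; ring)
    rw [h1, h2, hqo]; ring
  have hodd : ¬ 2 ∣ q * o * (m * m) := by
    simp only [Nat.Prime.dvd_mul Nat.prime_two]
    rw [Nat.odd_iff] at ho
    omega
  obtain ⟨n', x', y', d'⟩ := exists_sdPair ((GLTwoType.sylow_type P).1 (by rwa [ZMod.card]))
  have hn' : n' = n := by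
    have := d'.card.symm.trans (CfsgLib.Linear.card_sylow_of_card_eq 2 hcard hodd P)
    have := Nat.pow_right_injective le_rfl this
    omega
  subst hn'
  obtain ⟨e⟩ := CfsgLib.FusionMetaSuper.nonempty_equiv_of_sdPair d d'
  exact ⟨q, inferInstance, hqodd, h4, exists_psl_three_hom (by rwa [ZMod.card]) P e⟩

/-- A wreathed group is a Sylow 2-subgroup of some `PSL(3,p)`. -/
theorem exists_psl_three_model_wreathed {S : Type u} [Group S] (hS : Cfsg.IsWreathed S) :
    ∃ (p : ℕ) (_ : Fact p.Prime), Odd p ∧ p % 4 = 1 ∧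
      ∃ ι : S →* Matrix.ProjectiveSpecialLinearGroup (Fin 3) (ZMod p), Function.Injective ι ∧
        ∃ T : Sylow 2 (Matrix.ProjectiveSpecialLinearGroup (Fin 3) (ZMod p)),
          (T : Subgroup (Matrix.ProjectiveSpecialLinearGroup (Fin 3) (ZMod p))) = ι.range := by
  haveI : Fact (Nat.Prime 2) := ⟨Nat.prime_two⟩
  obtain ⟨n, x, y, z, d⟩ := exists_wrTriple hS
  have hn := d.le
  obtain ⟨q, o, hq, ho, hqo, hq2⟩ := exists_prime_two_adic_sub n (by omega)
  haveI : Fact q.Prime := ⟨hq⟩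
  have h4 : q % 4 = 1 := by
    have : 2 ^ 2 ∣ 2 ^ n * o := (pow_dvd_pow 2 hn).mul_right o
    omega
  have hqodd : Odd q := Nat.odd_iff.2 (by omega)
  obtain ⟨c, hc⟩ : ∃ c, q + 1 = 2 * c := ⟨(q + 1) / 2, by omega⟩
  obtain ⟨P⟩ : Nonempty (Sylow 2 (GL (Fin 2) (ZMod q))) := inferInstance
  have hcard : Nat.card (GL (Fin 2) (ZMod q)) = 2 ^ (2 * n + 1) * (q * c * (o * o)) := by
    rw [Matrix.card_GL_field, Fin.prod_univ_two, ZMod.card]
    simp only [Fin.val_zero, pow_zero, Fin.val_one, pow_one]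
    have h1 : q ^ 2 - 1 = (q + 1) * (2 ^ n * o) := Nat.sub_eq_of_eq_add (by rw [hqo]; ring)
    have h2 : q ^ 2 - q = q * (2 ^ n * o) := Nat.sub_eq_of_eq_add (by rw [hqo]; ring)
    rw [h1, h2, hc]; ring
  have hodd : ¬ 2 ∣ q * c * (o * o) := by
    simp only [Nat.Prime.dvd_mul Nat.prime_two]
    rw [Nat.odd_iff] at ho
    omega
  obtain ⟨n', x', y', z', d'⟩ :=
    exists_wrTriple ((GLTwoType.sylow_type P).2 (by rwa [ZMod.card]))
  have hn' : n' = n := by
    have := d'.card.symm.trans (CfsgLib.Linear.card_sylow_of_card_eq 2 hcard hodd P)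
    have := Nat.pow_right_injective le_rfl this
    omega
  subst hn'
  obtain ⟨e⟩ := nonempty_equiv_of_wrTriple d d'
  exact ⟨q, inferInstance, hqodd, h4, exists_psl_three_hom (by rwa [ZMod.card]) P e⟩

end CfsgLib.Classification.RankTwoFusion
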