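import Cfsg.Agent.Classification.RankTwoFusion.Main
import Cfsg.Agent.Fusion.Realized
import Cfsg.Prelude.Def_TwoFusion

/-!
The fusion system of a group of 2-rank two.
-/

set_option autoImplicit false

namespace CfsgLib.Classification.RankTwoFusion

open Cfsg Cfsg.FusionSystem CfsgLib.Fusion

variable {G : Type*} [Group G] [Finite G]

/-- Without isolated involutions the fusion system has trivial centre. -/
theorem center_eq_bot_of_no_isolated (S : Sylow 2 G) (hiso : ∀ z : G, ¬ Cfsg.IsIsolatedInvolution z) :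
    (Cfsg.groupFusionSystem (S : Subgroup G)).center = ⊥ := by
  classical
  haveI : Fact (Nat.Prime 2) := ⟨Nat.prime_two⟩
  refine eq_bot_iff.2 (sSup_le fun Q hQ => ?_)
  by_contra hne
  have hQS : Q ≤ (S : Subgroup G) := hQ.1
  haveI : Nontrivial Q := (Subgroup.nontrivial_iff_ne_bot Q).2 fun h => hne h.le
  obtain ⟨k, hk, hcard⟩ := (S.2.to_le hQS).nontrivial_iff_card.1 ‹_›
  obtain ⟨⟨z, hz⟩, hzo⟩ := exists_prime_orderOf_dvd_card' (G := Q) 2 (hcard ▸ dvd_pow_self 2 hk.ne')
  rw [Subgroup.orderOf_mk] at hzo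
  refine hiso z ⟨hzo, fun g hc => ?_⟩
  -- move the pair into the Sylow subgroup
  set w := g * z * g⁻¹ with hw
  set A := Subgroup.closure ({z, w} : Set G) with hA
  have hsq : z * z = 1 := by rw [← pow_two, ← hzo, pow_orderOf_eq_one]
  have hwsq : w * w = 1 := by rw [hw, show g * z * g⁻¹ * (g * z * g⁻¹) = g * (z * z) * g⁻¹ by group, hsq]; group
  haveI hAc : IsMulCommutative A := Subgroup.isMulCommutative_closure (by
    rintro p (rfl | rfl) q (rfl | rfl)
    exacts [rfl, hc.eq, hc.eq.symm, rfl])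
  have hA2 : IsPGroup 2 A := fun ⟨a, ha⟩ => ⟨1, Subtype.ext (by
    rw [pow_one]
    show a ^ 2 = 1
    induction ha using Subgroup.closure_induction with
    | mem p hp => rcases hp with rfl | rfl <;> rw [pow_two] <;> assumption
    | one => exact one_pow 2
    | mul p q hp hq ip iq =>
      rw [(show Commute p q from setLike_mul_comm (s := A) hp hq).mul_pow, ip, iq, one_mul]
    | inv p _ ip => rw [inv_pow, ip, inv_one])⟩
  obtain ⟨h, hh⟩ := CfsgLib.Fusion.exists_conj_mem_sylow S hA2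
  have fix : ∀ u : G, u * z * u⁻¹ ∈ (S : Subgroup G) → u * z * u⁻¹ = z := fun u hu => by
    have hle : Subgroup.zpowers z ≤ (S : Subgroup G) := Subgroup.zpowers_le.2 (hQS hz)
    have hφ : Cfsg.conjHom (Subgroup.zpowers z) u ∈
        (Cfsg.groupFusionSystem (S : Subgroup G)).Hom (Subgroup.zpowers z) := by
      refine ⟨hle, fun y => ?_, u, fun y => rfl⟩
      obtain ⟨i, hi⟩ := Subgroup.mem_zpowers_iff.1 y.2
      show u * (y : G) * u⁻¹ ∈ S
      rw [← hi, ← conj_zpow]
      exact zpow_mem hu i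
    obtain ⟨ψ, -, h1, h2⟩ := hQ.2 _ _ hφ
    exact ((h1 ⟨z, Subgroup.mem_zpowers z⟩).symm.trans (h2 ⟨z, hz⟩) : u * z * u⁻¹ = z)
  have hz' := hh z (Subgroup.subset_closure (by simp))
  have hw' := hh w (Subgroup.subset_closure (by simp))
  have e1 := fix h hz'
  have e2 := fix (h * g) (by rw [hw] at hw'; simpa [mul_assoc] using hw')
  calc w = h⁻¹ * (h * g * z * (h * g)⁻¹) * h := by rw [hw]; group
    _ = h⁻¹ * (h * z * h⁻¹) * h := by rw [e2, e1]
    _ = z := by group

/-- Ranks pass to a Sylow 2-subgroup. -/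
theorem prankLE_sylow (S : Sylow 2 G) {k : ℕ} (h : Cfsg.PRankLE 2 k G) :
    Cfsg.PRankLE 2 k (S : Subgroup G) := by
  intro A hA hA2
  haveI := hA
  rw [Nat.card_congr (A.equivMapOfInjective _ (S : Subgroup G).subtype_injective).toEquiv]
  refine h _ (Subgroup.map_isMulCommutative A _) ?_
  rintro _ ⟨a, ha, rfl⟩
  rw [← map_pow, hA2 a ha, map_one]

theorem prankLE_of_sylow (S : Sylow 2 G) {k : ℕ} (h : Cfsg.PRankLE 2 k (S : Subgroup G)) :
    Cfsg.PRankLE 2 k G := by
  intro A hA hA2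
  haveI : Fact (Nat.Prime 2) := ⟨Nat.prime_two⟩
  haveI := hA
  obtain ⟨g, hg⟩ := CfsgLib.Fusion.exists_conj_mem_sylow S (X := A) fun a =>
    ⟨1, Subtype.ext (by rw [pow_one]; exact hA2 a a.2)⟩
  let f : A →* (S : Subgroup G) :=
    { toFun := fun a => ⟨g * a * g⁻¹, hg a a.2⟩
      map_one' := Subtype.ext (by simp)
      map_mul' := fun a b => Subtype.ext (by
        show g * ((a : G) * b) * g⁻¹ = g * a * g⁻¹ * (g * b * g⁻¹); group) }
  have hf : Function.Injective f := fun a b hab =>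
    Subtype.ext (mul_left_cancel (mul_right_cancel (congrArg Subtype.val hab)))
  have hA' : IsMulCommutative f.range := ⟨⟨by
    rintro ⟨_, a, rfl⟩ ⟨_, b, rfl⟩
    refine Subtype.ext ?_
    show f a * f b = f b * f a
    rw [← map_mul, ← map_mul, hA.is_comm.comm a b]⟩⟩
  rw [Nat.card_congr (MonoidHom.ofInjective hf).toEquiv]
  refine h _ hA' ?_
  rintro _ ⟨a, rfl⟩
  rw [← map_pow, show a ^ 2 = 1 from Subtype.ext (hA2 a a.2), map_one]

end CfsgLib.Classification.RankTwoFusion
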