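import Cfsg.Agent.TwoGroups.RankTwoFrame

/-!
The exceptional group of order 64 has no automorphism that fixes one central involution, swaps the
other two and squares into the inner automorphisms acting trivially modulo the centre.
-/

set_option autoImplicit false

namespace CfsgLib.Classification.RankTwoFusion

open Subgroup CfsgLib.TwoGroups.RankTwoTransitive
open scoped commutatorElement

universe u

variable {T : Type u} [Group T] [Finite T] {ψ : MulAut T} {z : T}

theorem false_of_outer (h : Tri ψ z) (hna : ¬ ∀ x y : T, x * y = y * x) (σ : MulAut T)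
    (hz : σ z = z) (hmove : σ (ψ z) ≠ ψ z) (h2 : ∀ x, x⁻¹ * σ (σ x) ∈ center T) : False := by
  classical
  obtain ⟨fr⟩ := nonempty_frame h hna
  set Z := center T with hZ
  have hcomm : ∀ {c : T}, c ∈ Z → ∀ g : T, g * c = c * g := fun hc g => mem_center_iff.1 hc g
  have hσZ : ∀ {c : T}, c ∈ Z → σ c ∈ Z := fun {c} hc => by
    refine mem_center_iff.2 fun g => ?_
    obtain ⟨g', rfl⟩ := σ.surjective g
    rw [← map_mul, ← map_mul, hcomm hc]
  have hzz := h.sq
  have hvv : ψ z * ψ z = 1 := h.sq_map h.sq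
  have hne3 : ψ (ψ z) ≠ ψ z := fun e => h.move (ψ.injective e)
  have hwv : ψ (ψ z) = ψ z * z := by
    have h3 := h.prod_three h.sq
    have h4 : z * ψ z = ψ z * z := hcomm (h.mem_center hvv) z
    rw [h4, mul_eq_one_iff_inv_eq, mul_inv_rev, inv_eq_of_mul_eq_one_right hzz,
      inv_eq_of_mul_eq_one_right hvv] at h3
    rw [← h3, h4]
  have hσv : σ (ψ z) = ψ (ψ z) := by
    have hi : σ (ψ z) * σ (ψ z) = 1 := by rw [← map_mul, hvv, map_one]
    rcases h.cases hi with e | e | e | e
    · exact absurd (ψ.map_eq_one_iff.1 (σ.map_eq_one_iff.1 e)) h.ne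
    · exact absurd (σ.injective (e.trans hz.symm)) h.move
    · exact absurd e hmove
    · exact e
  have hσw : σ (ψ (ψ z)) = ψ z := by
    rw [hwv, map_mul, hσv, hz, hwv, mul_assoc, hzz, mul_one]
  -- squares
  have hsqc : ∀ x : T, x * x = 1 ↔ x ∈ Z := fun x =>
    ⟨fun hx => h.mem_center hx, fun hx => h.center_sq hna hx⟩
  have hsq : ∀ x : T, x ∉ Z → x * x = z ∨ x * x = ψ z ∨ x * x = ψ (ψ z) := fun x hx => by
    rcases h.cases (x := x * x) (h.center_sq hna (fr.sq_mem x)) with e | e | e | e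
    · exact absurd ((hsqc x).1 e) hx
    · exact Or.inl e
    · exact Or.inr (Or.inl e)
    · exact Or.inr (Or.inr e)
  -- the subgroup fixed modulo the centre
  let W : Subgroup T :=
    { carrier := {x | x⁻¹ * σ x ∈ Z}
      one_mem' := by
        show (1 : T)⁻¹ * σ 1 ∈ Z
        simp
      mul_mem' := fun {x y} (hx : x⁻¹ * σ x ∈ Z) (hy : y⁻¹ * σ y ∈ Z) => by
        show (x * y)⁻¹ * σ (x * y) ∈ Z
        have e : (x * y)⁻¹ * σ (x * y) = (x⁻¹ * σ x) * (y⁻¹ * σ y) := by
          calc (x * y)⁻¹ * σ (x * y) = y⁻¹ * (x⁻¹ * σ x) * σ y := by rw [map_mul]; group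
            _ = _ := by rw [hcomm hx y⁻¹, mul_assoc]
        rw [e]; exact mul_mem hx hy
      inv_mem' := fun {x} (hx : x⁻¹ * σ x ∈ Z) => by
        show x⁻¹⁻¹ * σ x⁻¹ ∈ Z
        have e : x⁻¹⁻¹ * σ x⁻¹ = (x⁻¹ * σ x)⁻¹ := by
          calc x⁻¹⁻¹ * σ x⁻¹ = x * (x⁻¹ * σ x)⁻¹ * x⁻¹ := by rw [map_inv]; group
            _ = _ := by rw [hcomm (inv_mem hx) x, mul_inv_cancel_right]
        rw [e]; exact inv_mem hx }
  have memW : ∀ x, x ∈ W ↔ x⁻¹ * σ x ∈ Z := fun x => Iff.rfl
  have hdW : ∀ x, x⁻¹ * σ x ∈ W := fun x => by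
    rw [memW]
    have hc := h2 x
    have h5 : (σ x)⁻¹ * x * ((σ x)⁻¹ * x) ∈ Z := fr.sq_mem _
    have e : (x⁻¹ * σ x)⁻¹ * σ (x⁻¹ * σ x) = ((σ x)⁻¹ * x * ((σ x)⁻¹ * x)) * (x⁻¹ * σ (σ x)) := by
      rw [map_mul, map_inv]; group
    rw [e]; exact mul_mem h5 hc
  have hZW : Z ≤ W := fun c hc => (memW c).2 (mul_mem (inv_mem hc) (hσZ hc))
  have hQc : ∀ a b : T, ((a : T ⧸ Z)) * b = b * a := fun a b => by
    rw [← commutatorElement_eq_one_iff_mul_comm]
    show ⁅QuotientGroup.mk' Z a, QuotientGroup.mk' Z b⁆ = 1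
    rw [← map_commutatorElement]
    exact (QuotientGroup.eq_one_iff _).2 (fr.comm_mem a b)
  let f : T →* T ⧸ Z :=
    { toFun := fun x => ((x⁻¹ * σ x : T) : T ⧸ Z)
      map_one' := by simp
      map_mul' := fun x y => by
        show (((x * y)⁻¹ * σ (x * y) : T) : T ⧸ Z) = ((x⁻¹ * σ x : T) : T ⧸ Z) * ((y⁻¹ * σ y : T) : T ⧸ Z)
        rw [show (x * y)⁻¹ * σ (x * y) = y⁻¹ * (x⁻¹ * σ x) * σ y by rw [map_mul]; group,
          QuotientGroup.mk_mul, QuotientGroup.mk_mul, hQc y⁻¹ (x⁻¹ * σ x), mul_assoc,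
          ← QuotientGroup.mk_mul] }
  have hker : f.ker = W := by
    ext x
    rw [MonoidHom.mem_ker, memW]
    exact QuotientGroup.eq_one_iff _
  have hW16 : 16 ≤ Nat.card W := by
    have hcomap : f.range.comap (QuotientGroup.mk' Z) ≤ W := by
      rintro a ⟨x, hx⟩
      have hm : (x⁻¹ * σ x)⁻¹ * a ∈ Z := QuotientGroup.eq.1 hx
      have := W.mul_mem (hdW x) (hZW hm)
      rwa [mul_inv_cancel_left] at this
    have h1 : Nat.card f.ker * Nat.card f.range = 64 := by
      rw [← Subgroup.index_ker, Subgroup.card_mul_index, fr.card]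
    have h3 : Nat.card (f.range.comap (QuotientGroup.mk' Z)) * f.range.index = 64 := by
      rw [← Subgroup.index_comap_of_surjective f.range (QuotientGroup.mk'_surjective Z),
        Subgroup.card_mul_index, fr.card]
    have h4 : Nat.card f.range * f.range.index = 16 := by
      rw [Subgroup.card_mul_index, fr.card_quot]
    have h6 : Nat.card (f.range.comap (QuotientGroup.mk' Z)) ≤ Nat.card W :=
      Nat.card_le_card_of_injective _ (Subgroup.inclusion_injective hcomap)
    rw [hker] at h1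
    by_contra hlt
    rw [not_le] at hlt
    have hi : 0 < f.range.index := Nat.pos_of_ne_zero Subgroup.index_ne_zero_of_finite
    have h7 : Nat.card (f.range.comap (QuotientGroup.mk' Z)) = 4 * Nat.card f.range :=
      Nat.eq_of_mul_eq_mul_right hi (by rw [h3, mul_assoc, h4]; rfl)
    have h8 : 4 * Nat.card f.range < 16 := by omega
    have : Nat.card W * Nat.card f.range ≤ 15 * 3 := Nat.mul_le_mul (by omega) (by omega)
    omega
  have hWsq : ∀ w ∈ W, w ∉ Z → w * w = z := fun w hw hwZ => by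
    have hfix : σ (w * w) = w * w := by
      have hc := (memW w).1 hw
      rw [map_mul, show σ w = w * (w⁻¹ * σ w) by group]
      calc w * (w⁻¹ * σ w) * (w * (w⁻¹ * σ w)) = w * w * ((w⁻¹ * σ w) * (w⁻¹ * σ w)) := by
            rw [mul_assoc w, ← mul_assoc (w⁻¹ * σ w) w, ← hcomm hc w]; simp only [mul_assoc]
        _ = w * w := by rw [h.center_sq hna hc, mul_one]
    rcases hsq w hwZ with e | e | e
    · exact e
    · rw [e, hσv] at hfix; exact absurd hfix hne3
    · rw [e, hσw] at hfix; exact absurd hfix.symm hne3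
  have hcard : (Z : Set T).ncard = 4 := by
    rw [← Nat.card_coe_set_eq]; exact fr.card_center
  have hex : ∀ w : T, ∃ w' : T, w' ∈ W ∧ w' ∉ Z ∧ w⁻¹ * w' ∉ Z := fun w => by
    by_contra hno
    have hsub : (W : Set T) ⊆ (Z : Set T) ∪ (fun c => w * c) '' (Z : Set T) := fun a ha => by
      by_cases h1 : a ∈ Z
      · exact Or.inl h1
      · exact Or.inr ⟨w⁻¹ * a, by_contra fun h3 => hno ⟨a, ha, h1, h3⟩, by simp⟩
    have := (Set.ncard_le_ncard hsub).trans ((Set.ncard_union_le _ _).trans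
      (Nat.add_le_add_left (Set.ncard_image_le (f := fun c => w * c)) _))
    rw [hcard, ← Nat.card_coe_set_eq] at this
    exact absurd (hW16.trans this) (by norm_num)
  choose g hgW hgZ hgw using hex
  -- elements whose square is not in `⟨z⟩`
  let A : Set T := {x | x ∉ Z ∧ x * x ≠ z}
  have hAσ : ∀ x ∈ A, σ (x * x) = x * x * z := by
    rintro x ⟨hxZ, hxz⟩
    rcases hsq x hxZ with e | e | e
    · exact absurd e hxz
    · rw [e, hσv, hwv]
    · rw [e, hσw, hwv, mul_assoc, hzz, mul_one]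
  have hAW : ∀ x ∈ A, x ∉ W := fun x hx hxW => hx.2 (hWsq x hxW hx.1)
  have hAc : ∀ x ∈ A, x⁻¹ * σ x ∉ Z ∧ x * (x⁻¹ * σ x) = (x⁻¹ * σ x) * x := by
    intro x hx
    have hd : x⁻¹ * σ x ∉ Z := fun hd => hAW x hx ((memW x).2 hd)
    refine ⟨hd, ?_⟩
    set d := x⁻¹ * σ x with hdd
    have h1 := hAσ x hx
    rw [map_mul, show σ x = x * d by simp [hdd], ← hWsq d (hdW x) hd] at h1
    have h2 : x * ((d * x) * d) = x * ((x * d) * d) := by simpa only [mul_assoc] using h1
    exact (mul_right_cancel (mul_left_cancel h2)).symm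
  let k : T → T := fun x => x * g ((f x).out)
  have hfk : ∀ x, f (k x) = f x := fun x => by
    have : f (g ((f x).out)) = 1 := by
      rw [← MonoidHom.mem_ker, hker]; exact hgW _
    show f (x * g ((f x).out)) = f x
    rw [map_mul, this, mul_one]
  have hkinj : Function.Injective k := fun x y e => by
    have h1 : f x = f y := by rw [← hfk x, e, hfk y]
    have e' : x * g ((f x).out) = y * g ((f y).out) := e
    rw [h1] at e'
    exact mul_right_cancel e'
  have hkA : ∀ x ∈ A, k x ∉ A := by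
    intro x hx hkx
    set w' := g ((f x).out) with hw'
    obtain ⟨hd, hxd⟩ := hAc x hx
    obtain ⟨-, hxd'⟩ := hAc _ hkx
    set d := x⁻¹ * σ x with hdd
    set d' := (k x)⁻¹ * σ (k x) with hdd'
    have hmk : ((d' : T) : T ⧸ Z) = (d : T ⧸ Z) := hfk x
    have hc : d⁻¹ * d' ∈ Z := QuotientGroup.eq.1 hmk.symm
    have hkd : Commute (k x) d := by
      have e : d = d' * (d⁻¹ * d')⁻¹ := by group
      rw [e]
      exact Commute.mul_right hxd' (hcomm (inv_mem hc) _)
    have hwd : Commute w' d := by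
      have e : w' = x⁻¹ * k x := by show w' = x⁻¹ * (x * w'); group
      rw [e]
      exact Commute.mul_left (Commute.inv_left hxd) hkd
    have hm : ((f x).out : T)⁻¹ * d ∈ Z := QuotientGroup.eq.1 (QuotientGroup.out_eq' (f x))
    have hdw : d⁻¹ * w' ∉ Z := fun hz' => hgw ((f x).out) (by
      have e : ((f x).out : T)⁻¹ * g ((f x).out) = (((f x).out : T)⁻¹ * d) * (d⁻¹ * w') := by
        rw [hw']; group
      rw [e]; exact mul_mem hm hz')
    refine hdw ((hsqc _).1 ?_)
    rw [hwd.inv_right.mul_mul_mul_comm, ← mul_inv_rev, hWsq d (hdW x) hd,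
      hWsq w' (hgW _) (hgZ _), inv_mul_cancel]
  have hkW : ∀ x ∈ A, k x ∉ W := fun x hx hk => hAW x hx (by
    have := W.mul_mem hk (W.inv_mem (hgW ((f x).out)))
    rwa [mul_inv_cancel_right] at this)
  -- counting
  have hA40 : 40 ≤ A.ncard := by
    let fib : T → Set T := fun u => {x | x * x = u}
    have hψ : ∀ u, (fib (ψ u)).ncard = (fib u).ncard := fun u => by
      have : fib (ψ u) = ψ '' fib u := by
        ext x
        constructor
        · intro hx
          refine ⟨ψ.symm x, ?_, by simp⟩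
          show ψ.symm x * ψ.symm x = u
          rw [← map_mul, show x * x = ψ u from hx, MulEquiv.symm_apply_apply]
        · rintro ⟨y, hy, rfl⟩
          show ψ y * ψ y = ψ u
          rw [← map_mul, show y * y = u from hy]
      rw [this, Set.ncard_image_of_injective _ ψ.injective]
    have huniv : (Set.univ : Set T) ⊆ (Z : Set T) ∪ fib z ∪ fib (ψ z) ∪ fib (ψ (ψ z)) := fun x _ => by
      by_cases hx : x ∈ Z
      · exact Or.inl (Or.inl (Or.inl hx))
      rcases hsq x hx with e | e | e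
      · exact Or.inl (Or.inl (Or.inr e))
      · exact Or.inl (Or.inr e)
      · exact Or.inr e
    have h1 := Set.ncard_le_ncard huniv
    rw [Set.ncard_univ, fr.card] at h1
    have h3 := Set.ncard_union_le ((Z : Set T) ∪ fib z ∪ fib (ψ z)) (fib (ψ (ψ z)))
    have h4 := Set.ncard_union_le ((Z : Set T) ∪ fib z) (fib (ψ z))
    have h5 := Set.ncard_union_le (Z : Set T) (fib z)
    rw [hψ (ψ z), hψ z] at h3
    rw [hψ z] at h4
    rw [hcard] at h5
    have hsub : fib (ψ z) ∪ fib (ψ (ψ z)) ⊆ A := by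
      rintro x (hx | hx)
      · exact ⟨fun hc => h.ne (ψ.map_eq_one_iff.1 ((show x * x = ψ z from hx).symm.trans ((hsqc x).2 hc))),
          fun e => h.move ((show x * x = ψ z from hx).symm.trans e)⟩
      · exact ⟨fun hc => h.ne (ψ.map_eq_one_iff.1 (ψ.map_eq_one_iff.1
            ((show x * x = ψ (ψ z) from hx).symm.trans ((hsqc x).2 hc)))),
          fun e => h.move_two ((show x * x = ψ (ψ z) from hx).symm.trans e)⟩
    have h6 := Set.ncard_le_ncard hsub
    have hdis : Disjoint (fib (ψ z)) (fib (ψ (ψ z))) :=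
      Set.disjoint_left.2 fun x (hx : x * x = ψ z) (hx' : x * x = ψ (ψ z)) =>
        hne3 (hx'.symm.trans hx)
    rw [Set.ncard_union_eq hdis, hψ (ψ z), hψ z] at h6
    omega
  have hd1 : Disjoint A (k '' A) := Set.disjoint_left.2 (by
    rintro _ hy ⟨x, hx, rfl⟩
    exact hkA x hx hy)
  have hd2 : Disjoint (A ∪ k '' A) (W : Set T) := Set.disjoint_left.2 (by
    rintro _ (hy | ⟨x, hx, rfl⟩) hW'
    · exact hAW _ hy hW'
    · exact hkW x hx hW')
  have h9 := Set.ncard_le_ncard (Set.subset_univ (A ∪ k '' A ∪ (W : Set T)))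
  rw [Set.ncard_univ, fr.card, Set.ncard_union_eq hd2, Set.ncard_union_eq hd1,
    Set.ncard_image_of_injective _ hkinj, ← Nat.card_coe_set_eq (W : Set T)] at h9
  have : 16 ≤ Nat.card (W : Set T) := hW16
  omega

end CfsgLib.Classification.RankTwoFusion
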