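import Cfsg.Agent.Classification.RankTwoFusion.Models
import Cfsg.Agent.MaxClassRealize.MPairFrame
import Cfsg.Agent.Linear.Perfect

/-!
A system with focal subgroup `S` on a 2-group with two rigid candidate classes is the system of any
perfect group having `S` as a Sylow 2-subgroup.
-/

set_option autoImplicit false
set_option linter.style.haveILetI false

namespace CfsgLib.Classification.RankTwoFusion

open Cfsg Cfsg.FusionSystem CfsgLib.Fusion CfsgLib.MaxClassRealize
open scoped commutatorElement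

universe u v

variable {Ω : Type u} [Group Ω] {S : Subgroup Ω} [Finite S] {F : FusionSystem S}

theorem active_of_focal {M E C : Fin 2 → Subgroup S} (fr : Frame M E C) (hS : IsPGroup 2 S)
    (hF : F.IsSaturated 2) (hfoc : F.focalSubgroup = S) (i : Fin 2) :
    Active F ((E i).map S.subtype) := by
  by_contra hi
  obtain ⟨j, hj⟩ := fr.exists_congr_mod hS hF hi
  refine fr.ne_top j (eq_top_iff.2 fun s _ => ?_)
  have hle : F.focalSubgroup ≤ (M j).map S.subtype := by
    refine (Subgroup.closure_le _).2 ?_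
    rintro y ⟨P, φ, x, hφ, rfl⟩
    exact hj P φ hφ x
  have hs : (s : Ω) ∈ F.focalSubgroup := by rw [hfoc]; exact s.2
  obtain ⟨m, hm, hms⟩ := hle hs
  exact Subtype.ext hms ▸ hm

theorem realizedBy_of_frame {M E C : Fin 2 → Subgroup S} (fr : Frame M E C) (hS : IsPGroup 2 S)
    (hF : F.IsSaturated 2) (hfoc : F.focalSubgroup = S) (hrig : ∀ i, Rigid (E i))
    {G : Type v} [Group G] [Finite G] {ι : S →* G} (hι : Function.Injective ι)
    (T : Sylow 2 G) (hT : (T : Subgroup G) = ι.range) (hcomm : commutator G = ⊤) :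
    F.IsRealizedBy ι := by
  haveI : Fact (Nat.Prime 2) := ⟨Nat.prime_two⟩
  have hsat := isSaturated_pull (hι := hι) T hT
  have ha := active_of_focal fr hS hF hfoc
  have hb := fun i => fr.all_active (hι := hι) hS T hT (hcomm ▸ le_top) i
  have h1 := fr.le_of_active hS hF fun i hfn _ => hrig i F _ hF hsat hfn (ha i) (hb i)
  have h2 := fr.le_of_active hS hsat fun i hfn _ => hrig i _ F hsat hF hfn (hb i) (ha i)
  have he : F = pull ι hι := fusionSystem_ext fun P => Set.Subset.antisymm (h1 P) (h2 P)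
  exact he ▸ pull_isRealizedBy

theorem commutator_eq_top_of_injective {A : Type u} [Group A] {G : Type v} [Group G]
    (hG : IsSimpleGroup G) {ι : A →* G} (hι : Function.Injective ι)
    (hnc : ¬ ∀ x y : A, x * y = y * x) : commutator G = ⊤ := by
  haveI := hG
  haveI : (commutator G).Normal := inferInstance
  refine (Subgroup.Normal.eq_bot_or_eq_top inferInstance).resolve_left fun h => hnc fun x y =>
    hι ?_
  have hm : ⁅ι x, ι y⁆ ∈ commutator G :=
    Subgroup.commutator_mem_commutator (Subgroup.mem_top _) (Subgroup.mem_top _)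
  rw [h, Subgroup.mem_bot, commutatorElement_eq_one_iff_mul_comm] at hm
  rw [map_mul, map_mul, hm]

theorem mPair_of_dihedral {T : Type u} [Group T] [Finite T] (hT : IsPGroup 2 T) {m : ℕ}
    (hm : 3 ≤ m) (e : T ≃* DihedralGroup m) : ∃ (n : ℕ) (x y : T), MPair n 0 0 x y := by
  obtain ⟨k, hk⟩ := hT.exists_card_eq
  rw [Nat.card_congr e.toEquiv, DihedralGroup.nat_card] at hk
  have hk3 : 3 ≤ k := by
    by_contra h
    have : 2 ^ k ≤ 2 ^ 2 := Nat.pow_le_pow_right two_pos (by omega)
    omega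
  obtain ⟨n, rfl⟩ : ∃ n, k = n + 1 := ⟨k - 1, by omega⟩
  have hm' : m = 2 ^ n := by rw [pow_succ] at hk; omega
  refine ⟨n, e.symm (.r 1), e.symm (.sr 0), ⟨by omega, fun b h => absurd ⟨0, by ring⟩ h, ?_,
    ?_, ?_, ?_, ?_⟩⟩
  · rw [Nat.card_congr e.toEquiv, DihedralGroup.nat_card, hm', pow_succ, mul_comm]
  · rw [MulEquiv.orderOf_eq, DihedralGroup.orderOf_r_one, hm']
  · intro h
    obtain ⟨i, hi⟩ := h
    have h' := congrArg e hi
    simp only [map_zpow, MulEquiv.apply_symm_apply, DihedralGroup.r_one_zpow] at h'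
    exact nomatch h'
  · rw [mul_zero, zero_sub, zpow_neg, zpow_one, ← map_inv e.symm, ← map_mul, ← map_mul, ← map_inv]
    congr 1
    rw [DihedralGroup.inv_sr, DihedralGroup.sr_mul_r, DihedralGroup.sr_mul_sr, DihedralGroup.inv_r]
    simp
  · rw [mul_zero, zpow_zero, ← map_mul, DihedralGroup.sr_mul_sr, sub_zero, ← DihedralGroup.one_def,
      map_one]

theorem mPair_of_quasiDihedral {T : Type u} [Group T] (hT : Cfsg.IsQuasiDihedral T) :
    ∃ (n : ℕ) (x y : T), MPair n 1 0 x y := by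
  obtain ⟨n, x, y, d⟩ := CfsgLib.TwoGroups.exists_sdPair hT
  refine ⟨n, x, y, ⟨by have := d.le; omega, fun b _ => d.le, d.card, d.ox, d.y_notMem, ?_, ?_⟩⟩
  · rw [d.rel, mul_one, ← zpow_natCast]
    congr 1
    have := Nat.one_le_two_pow (n := n - 1)
    rw [Nat.cast_sub this, ph]
    push_cast
    rfl
  · rw [mul_zero, zpow_zero, d.y_mul_y]

/-- Dihedral case: the system of `PSL(2,p)`. -/
theorem realizedBy_psl_two (hS : IsPGroup 2 S) (hF : F.IsSaturated 2) (hfoc : F.focalSubgroup = S)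
    {m : ℕ} (hm : 3 ≤ m) (e : S ≃* DihedralGroup m) :
    ∃ (p : ℕ) (_ : Fact p.Prime), Odd p ∧ p % 8 = 7 ∧
      ∃ ι : S →* Matrix.ProjectiveSpecialLinearGroup (Fin 2) (ZMod p), F.IsRealizedBy ι ∧
        ∃ T : Sylow 2 (Matrix.ProjectiveSpecialLinearGroup (Fin 2) (ZMod p)),
          (T : Subgroup (Matrix.ProjectiveSpecialLinearGroup (Fin 2) (ZMod p))) = ι.range := by
  obtain ⟨p, hp, hodd, h8, ι, hι, T, hT⟩ := exists_psl_two_model hS hm e
  obtain ⟨n, x, y, d⟩ := mPair_of_dihedral hS hm e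
  refine ⟨p, hp, hodd, h8, ι, realizedBy_of_frame d.frame hS hF hfoc (fun i => d.rigid _) hι T hT
    (commutator_eq_top_of_injective (CfsgLib.Linear.isSimpleGroup_PSL_of 2 le_rfl fun _ => ?_) hι
      fun h => ?_), T, hT⟩
  · rw [ZMod.card]; omega
  · have h1 := congrArg e (h (e.symm (.r 1)) (e.symm (.sr 0)))
    simp only [map_mul, MulEquiv.apply_symm_apply, DihedralGroup.r_mul_sr,
      DihedralGroup.sr_mul_r, DihedralGroup.sr.injEq, zero_sub, zero_add] at h1
    have h2 : ((2 : ℕ) : ZMod m) = 0 := by push_cast; linear_combination -h1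
    rw [ZMod.natCast_eq_zero_iff] at h2
    have := Nat.le_of_dvd two_pos h2
    omega

/-- Semidihedral case: the system of `PSL(3,p)`. -/
theorem realizedBy_psl_three_quasiDihedral (hS : IsPGroup 2 S) (hF : F.IsSaturated 2)
    (hfoc : F.focalSubgroup = S) (hqd : Cfsg.IsQuasiDihedral S) :
    ∃ (p : ℕ) (_ : Fact p.Prime), Odd p ∧ p % 4 = 3 ∧
      ∃ ι : S →* Matrix.ProjectiveSpecialLinearGroup (Fin 3) (ZMod p), F.IsRealizedBy ι ∧
        ∃ T : Sylow 2 (Matrix.ProjectiveSpecialLinearGroup (Fin 3) (ZMod p)),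
          (T : Subgroup (Matrix.ProjectiveSpecialLinearGroup (Fin 3) (ZMod p))) = ι.range := by
  obtain ⟨p, hp, hodd, h4, ι, hι, T, hT⟩ := exists_psl_three_model_quasiDihedral hqd
  obtain ⟨n, x, y, d⟩ := mPair_of_quasiDihedral hqd
  exact ⟨p, hp, hodd, h4, ι, realizedBy_of_frame d.frame hS hF hfoc (fun i => d.rigid _) hι T hT
    (CfsgLib.Linear.commutator_PSL_eq_top (by simp)), T, hT⟩

end CfsgLib.Classification.RankTwoFusion
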