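import Cfsg.Agent.Classification.RankTwoFusion.WreathedFrame
import Cfsg.Agent.Classification.RankTwoFusion.SimpleRealize

/-!
The automizer of the base group of a wreathed group: an active system has an adapted triple, and
this determines it. Hence a system with focal subgroup `S` is the system of `PSL(3,p)`.
-/

set_option autoImplicit false
set_option linter.style.haveILetI false

namespace CfsgLib.Classification.RankTwoFusion

open Cfsg Cfsg.FusionSystem CfsgLib.Fusion CfsgLib.MaxClassRealize CfsgLib.TwoGroups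

universe u v

variable {Ω : Type u} [Group Ω] {S : Subgroup Ω} [Finite S] {n : ℕ} {x y z : S}

/-- The base group inside `Ω`. -/
abbrev baseO (d : WRTriple n x y z) : Subgroup Ω := d.base.map S.subtype

/-- The triple is adapted to the system: some automorphism of the base group in the system sends
`x ↦ y ↦ (xy)⁻¹`. -/
def Adapted (F : FusionSystem S) (d : WRTriple n x y z) : Prop :=
  ∃ β ∈ F.autGroup (baseO d), ∀ (a b : ℤ) (t : baseO d), (t : Ω) = (el x y a b : S) →
    ((β t : baseO d) : Ω) = (el x y (-b) (a - b) : S)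

theorem el_mem_baseO (d : WRTriple n x y z) (a b : ℤ) : ((el x y a b : S) : Ω) ∈ baseO d :=
  ⟨_, d.el_mem_base a b, rfl⟩

section aut

variable (d : WRTriple n x y z) {F : FusionSystem S}
include d

theorem mem_baseO {t : Ω} : t ∈ baseO d ↔ ∃ a b : ℤ, t = (el x y a b : S) := by
  constructor
  · rintro ⟨s, hs, rfl⟩
    obtain ⟨a, b, rfl⟩ := d.mem_base.1 hs
    exact ⟨a, b, rfl⟩
  · rintro ⟨a, b, rfl⟩
    exact el_mem_baseO d a b

theorem isPGroup_baseO : IsPGroup 2 (baseO d) :=
  ((isPGroup_wr d).to_subgroup _).map S.subtype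

theorem comm_baseO (s t : baseO d) : s * t = t * s := by
  obtain ⟨a, b, hs⟩ := (mem_baseO d).1 s.2
  obtain ⟨c, e, ht⟩ := (mem_baseO d).1 t.2
  refine Subtype.ext ?_
  show (s : Ω) * t = t * s
  rw [hs, ht, ← Subgroup.coe_mul, ← Subgroup.coe_mul, (d.commute_el_el a b c e).eq]

theorem finite_mulAut_baseO : Finite (MulAut (baseO d)) := by
  haveI : Finite (baseO d) := finite_of_le (Subgroup.map_subtype_le _)
  exact Finite.of_injective (fun a => (a : baseO d → baseO d)) DFunLike.coe_injective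

theorem mk_baseO_sq {a b : ℤ} (ha : hw n ∣ a) (hb : hw n ∣ b) :
    (⟨_, el_mem_baseO d a b⟩ : baseO d) * ⟨_, el_mem_baseO d a b⟩ = 1 := by
  apply Subtype.ext
  show ((el x y a b : S) : Ω) * ((el x y a b : S) : Ω) = 1
  rw [← Subgroup.coe_mul, d.el_sq_eq_one.2 ⟨ha, hb⟩, Subgroup.coe_one]

/-- The transport of automorphisms of the base group. -/
noncomputable def baseEquivO : d.base ≃* baseO d :=
  d.base.equivMapOfInjective S.subtype S.subtype_injective

theorem fixedPointFree_baseO {α : MulAut (baseO d)} (hodd : Odd (orderOf α)) (hne : α ≠ 1)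
    {t : baseO d} (ht : α t = t) : t = 1 := by
  obtain ⟨s, rfl⟩ := (baseEquivO d).surjective t
  have h1 := base_fixedPointFree d (α := (MulAut.congr (baseEquivO d)).symm α)
    (by rwa [MulEquiv.orderOf_eq])
    (fun h => hne ((MulAut.congr (baseEquivO d)).symm.injective (h.trans (map_one _).symm))) (t := s) (by
      show (baseEquivO d).symm (α (baseEquivO d s)) = s
      rw [ht, MulEquiv.symm_apply_apply])
  rw [h1, map_one]

/-- Conjugation by `z`. -/
theorem exists_swap : ∃ σ ∈ F.autGroup (baseO d), σ * σ = 1 ∧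
    (∀ (a b : ℤ) (t : baseO d), (t : Ω) = (el x y a b : S) →
      ((σ t : baseO d) : Ω) = (el x y b a : S)) ∧
    ∀ γ ∈ autInducedBy S (baseO d), γ = 1 ∨ γ = σ := by
  have hn : ((z : S) : Ω) ∈ Subgroup.normalizer (baseO d : Set Ω) := by
    haveI : Finite (baseO d) := finite_of_le (Subgroup.map_subtype_le _)
    refine Subgroup.mem_normalizer_fintype ?_
    intro t ht
    obtain ⟨a, b, rfl⟩ := (mem_baseO d).1 ht
    refine (mem_baseO d).2 ⟨b, a, ?_⟩
    rw [← d.conj_z_el a b]
    rfl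
  let σ := (baseO d).normalizerMonoidHom ⟨_, hn⟩
  have hσ : ∀ (a b : ℤ) (t : baseO d), (t : Ω) = (el x y a b : S) →
      ((σ t : baseO d) : Ω) = (el x y b a : S) := by
    intro a b t ht
    show (z : Ω) * t * (z : Ω)⁻¹ = _
    rw [ht, ← d.conj_z_el a b]
    rfl
  refine ⟨σ, autInducedBy_le_autGroup (Subgroup.map_subtype_le _)
    (mem_autInducedBy_iff.2 ⟨_, z.2, hn, fun _ => rfl⟩), ?_, hσ, ?_⟩
  · refine MulEquiv.ext fun t => Subtype.ext ?_
    obtain ⟨a, b, ht⟩ := (mem_baseO d).1 t.2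
    show ((σ (σ t) : baseO d) : Ω) = t
    rw [hσ b a _ (hσ a b t ht), ht]
  · intro γ hγ
    obtain ⟨g, hg, -, hgγ⟩ := mem_autInducedBy_iff.1 hγ
    obtain ⟨p, q, hp | hp⟩ := d.eq_cases ⟨g, hg⟩
    · left
      refine MulEquiv.ext fun t => Subtype.ext ?_
      obtain ⟨a, b, ht⟩ := (mem_baseO d).1 t.2
      rw [hgγ, ht, show g = ((el x y p q : S) : Ω) from congrArg Subtype.val hp]
      show _ = (t : Ω)
      rw [ht, ← Subgroup.coe_mul, ← Subgroup.coe_inv, ← Subgroup.coe_mul, d.conj_el_el]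
    · right
      refine MulEquiv.ext fun t => Subtype.ext ?_
      obtain ⟨a, b, ht⟩ := (mem_baseO d).1 t.2
      rw [hgγ, hσ a b t ht, ht, show g = ((el x y p q * z : S) : Ω) from congrArg Subtype.val hp,
        ← Subgroup.coe_mul, ← Subgroup.coe_inv, ← Subgroup.coe_mul, d.conj_elz_el]

theorem isFullyNormalized_baseO : F.IsFullyNormalized (baseO d) := by
  refine ⟨Subgroup.map_subtype_le _, fun Q _ => ?_⟩
  haveI : (d.base).Normal := Subgroup.normal_of_index_eq_two d.index_base
  have h : normalizerIn S (baseO d) = S := by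
    refine inf_eq_left.2 fun g hg => ?_
    haveI : Finite (baseO d) := finite_of_le (Subgroup.map_subtype_le _)
    refine Subgroup.mem_normalizer_fintype ?_
    rintro _ ⟨t, ht, rfl⟩
    exact ⟨⟨g, hg⟩ * t * ⟨g, hg⟩⁻¹, ‹d.base.Normal›.conj_mem t ht _, rfl⟩
  rw [h]
  exact Nat.card_le_card_of_injective (fun t => (⟨t.1, (Subgroup.mem_inf.1 t.2).1⟩ : S))
    fun a b hab => Subtype.ext (congrArg Subtype.val hab :)

/-- At most six automorphisms of the base group lie in a saturated system. -/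
theorem card_autGroup_baseO_le (hF : F.IsSaturated 2) :
    Nat.card (F.autGroup (baseO d)) ≤ 6 ∧ ∀ γ ∈ F.autGroup (baseO d),
      (∀ t : baseO d, t * t = 1 → γ t = t) → γ = 1 := by
  haveI := finite_mulAut_baseO d
  haveI : Fact (Nat.Prime 2) := ⟨Nat.prime_two⟩
  haveI : Finite (baseO d) := finite_of_le (Subgroup.map_subtype_le _)
  obtain ⟨σ, hσF, hσ2, hσv, hR⟩ := exists_swap (F := F) d
  let K : Subgroup (F.autGroup (baseO d)) :=
    { carrier := {γ | ∀ t : baseO d, t * t = 1 → (γ : MulAut (baseO d)) t = t}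
      one_mem' := fun _ _ => rfl
      mul_mem' := fun {a b} ha hb t ht => by
        rw [Subgroup.coe_mul, MulAut.mul_apply, hb t ht, ha t ht]
      inv_mem' := fun {a} ha t ht => by
        conv_lhs => rw [← ha t ht]
        rw [Subgroup.coe_inv]
        exact (a : MulAut (baseO d)).symm_apply_apply t }
  haveI hKn : K.Normal := ⟨fun a ha g t ht => by
    show (g : MulAut (baseO d)) ((a : MulAut (baseO d)) (((g⁻¹ : F.autGroup _) : MulAut _) t)) = t
    rw [ha _ (by rw [← map_mul, ht, map_one]), Subgroup.coe_inv]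
    exact (g : MulAut (baseO d)).apply_symm_apply t⟩
  have hKp : IsPGroup 2 K := by
    intro a
    obtain ⟨k, m, hm, hord⟩ := Nat.exists_eq_two_pow_mul_odd (orderOf_pos a).ne'
    refine ⟨k, ?_⟩
    have hodd : Odd (orderOf (((a : F.autGroup (baseO d)) : MulAut (baseO d)) ^ 2 ^ k)) := by
      rw [orderOf_pow, Subgroup.orderOf_coe, Subgroup.orderOf_coe, hord,
        Nat.gcd_eq_right (dvd_mul_right _ _), Nat.mul_div_cancel_left _ (pow_pos two_pos k)]
      exact hm
    have h1 : ((a : F.autGroup (baseO d)) : MulAut (baseO d)) ^ 2 ^ k = 1 :=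
      eq_one_of_fix_involutions (isPGroup_baseO d) (comm_baseO d) hodd fun t ht => by
        have := (a ^ 2 ^ k).2 t ht
        simpa using this
    exact Subtype.ext (Subtype.ext (by simpa using h1))
  have hK1 : ∀ γ ∈ F.autGroup (baseO d), (∀ t : baseO d, t * t = 1 → γ t = t) → γ = 1 := by
    intro γ hγ hfix
    obtain ⟨-, Q, hQ⟩ := (automized_receptive (isPGroup_wr d) hF (isFullyNormalized_baseO d)).1
    obtain ⟨Q', hQ'⟩ := hKp.exists_le_sylow
    obtain ⟨g, hg⟩ := MulAction.exists_smul_eq (F.autGroup (baseO d)) Q' Q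
    have hγQ : (⟨γ, hγ⟩ : F.autGroup (baseO d)) ∈ (Q : Subgroup (F.autGroup (baseO d))) := by
      rw [← hg, Sylow.coe_subgroup_smul, Subgroup.mem_pointwise_smul_iff_inv_smul_mem]
      refine hQ' ?_
      have h2 := hKn.conj_mem ⟨γ, hγ⟩ hfix g⁻¹
      rw [inv_inv] at h2
      simpa [MulAut.smul_def, mul_assoc] using h2
    rw [hQ, Subgroup.mem_subgroupOf] at hγQ
    refine (hR γ hγQ).resolve_right fun h => ?_
    have h2 : (⟨_, el_mem_baseO d (hw n) 0⟩ : baseO d) * ⟨_, el_mem_baseO d (hw n) 0⟩ = 1 :=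
      mk_baseO_sq d dvd_rfl (dvd_zero _)
    have h3 : ((σ ⟨_, el_mem_baseO d (hw n) 0⟩ : baseO d) : Ω) = _ := hσv _ _ _ rfl
    rw [← h, hfix _ h2] at h3
    exact d.not_nn_dvd_hw (by simpa using (d.el_inj.1 (Subtype.ext h3.symm)).1)
  refine ⟨?_, hK1⟩
  -- images of the two involutions
  let a₁ : baseO d := ⟨_, el_mem_baseO d (hw n) 0⟩
  let a₂ : baseO d := ⟨_, el_mem_baseO d 0 (hw n)⟩
  let a₃ : baseO d := a₁ * a₂
  have h₁ : a₁ * a₁ = 1 := mk_baseO_sq d dvd_rfl (dvd_zero _)
  have h₂ : a₂ * a₂ = 1 := mk_baseO_sq d (dvd_zero _) dvd_rfl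
  have hinvol : ∀ t : baseO d, t * t = 1 → t = 1 ∨ t = a₁ ∨ t = a₂ ∨ t = a₃ := by
    intro t ht
    obtain ⟨a, b, hab⟩ := (mem_baseO d).1 t.2
    have h1 : el x y a b * el x y a b = 1 := Subtype.ext (by
      rw [Subgroup.coe_mul, ← hab]; exact congrArg Subtype.val ht)
    rcases d.el_invol h1 with h | h | h | h <;> rw [h] at hab
    · exact Or.inl (Subtype.ext hab)
    · exact Or.inr (Or.inl (Subtype.ext hab))
    · exact Or.inr (Or.inr (Or.inl (Subtype.ext hab)))
    · refine Or.inr (Or.inr (Or.inr (Subtype.ext (hab.trans ?_))))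
      show _ = ((el x y (hw n) 0 : S) : Ω) * ((el x y 0 (hw n) : S) : Ω)
      rw [← Subgroup.coe_mul, d.el_mul, add_zero, zero_add]
  let L : Fin 3 → baseO d := ![a₁, a₂, a₃]
  have ha₁ : a₁ ≠ 1 := fun h => d.el_hw_ne_one_left 0 (Subtype.ext (congrArg Subtype.val h :))
  have ha₂ : a₂ ≠ 1 := fun h => d.el_hw_ne_one_right 0 (Subtype.ext (congrArg Subtype.val h :))
  have ha₁₂ : a₁ ≠ a₂ := fun h => d.not_nn_dvd_hw (by
    simpa using (d.el_inj.1 (Subtype.ext (congrArg Subtype.val h :) : el x y (hw n) 0 = el x y 0 (hw n))).2)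
  have hex : ∀ γ : F.autGroup (baseO d), ∀ t : baseO d, t * t = 1 → t ≠ 1 →
      ∃ l, L l = (γ : MulAut (baseO d)) t := by
    intro γ t ht ht1
    rcases hinvol _ (show (γ : MulAut (baseO d)) t * (γ : MulAut (baseO d)) t = 1 by
      rw [← map_mul, ht, map_one]) with h | h | h | h
    · exact absurd ((γ : MulAut (baseO d)).injective (h.trans (map_one _).symm)) ht1
    exacts [⟨0, h.symm⟩, ⟨1, h.symm⟩, ⟨2, h.symm⟩]
  choose f hf using fun γ : F.autGroup (baseO d) => hex γ a₁ h₁ ha₁
  choose g hg using fun γ : F.autGroup (baseO d) => hex γ a₂ h₂ ha₂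
  let Φ : F.autGroup (baseO d) → {l : Fin 3 × Fin 3 // l.1 ≠ l.2} := fun γ => ⟨(f γ, g γ), fun h =>
    ha₁₂ ((γ : MulAut (baseO d)).injective ((hf γ).symm.trans ((congrArg L h).trans (hg γ))))⟩
  have hΦ : Function.Injective Φ := by
    intro γ δ h
    have h1 : (γ : MulAut (baseO d)) a₁ = (δ : MulAut (baseO d)) a₁ := by
      have e : f γ = f δ := congrArg (fun l : {l : Fin 3 × Fin 3 // l.1 ≠ l.2} => l.1.1) h
      rw [← hf, ← hf, e]
    have h2 : (γ : MulAut (baseO d)) a₂ = (δ : MulAut (baseO d)) a₂ := by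
      have e : g γ = g δ := congrArg (fun l : {l : Fin 3 × Fin 3 // l.1 ≠ l.2} => l.1.2) h
      rw [← hg, ← hg, e]
    have h3 := hK1 _ (δ⁻¹ * γ).2 fun t ht => by
      rw [Subgroup.coe_mul, MulAut.mul_apply, Subgroup.coe_inv]
      refine (δ : MulAut (baseO d)).symm_apply_eq.2 ?_
      rcases hinvol t ht with rfl | rfl | rfl | rfl
      · rw [map_one, map_one]
      · exact h1
      · exact h2
      · rw [map_mul, map_mul, h1, h2]
    exact (inv_mul_eq_one.1 (Subtype.ext h3)).symm
  refine (Nat.card_le_card_of_injective Φ hΦ).trans ?_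
  rw [Nat.card_eq_fintype_card]
  decide

theorem Adapted.eq_closure (hF : F.IsSaturated 2) {β σ : MulAut (baseO d)}
    (hβF : β ∈ F.autGroup (baseO d)) (hσF : σ ∈ F.autGroup (baseO d)) (hβ : orderOf β = 3)
    (hσ : orderOf σ = 2) : F.autGroup (baseO d) = Subgroup.closure {β, σ} := by
  haveI := finite_mulAut_baseO d
  refine (Subgroup.eq_of_le_of_card_ge ((Subgroup.closure_le _).2 (by
    rintro γ (rfl | rfl) <;> assumption)) ?_).symm
  have h3 : 3 ∣ Nat.card (Subgroup.closure ({β, σ} : Set (MulAut (baseO d)))) :=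
    hβ ▸ Subgroup.orderOf_dvd_natCard _ (Subgroup.subset_closure (Set.mem_insert _ _))
  have h2 : 2 ∣ Nat.card (Subgroup.closure ({β, σ} : Set (MulAut (baseO d)))) :=
    hσ ▸ Subgroup.orderOf_dvd_natCard _ (Subgroup.subset_closure (Set.mem_insert_of_mem _ rfl))
  have := Nat.le_of_dvd Nat.card_pos (Nat.Coprime.mul_dvd_of_dvd_of_dvd (by decide) h3 h2)
  have := (card_autGroup_baseO_le d hF).1
  omega

/-- A shared adapted triple determines the automizer of the base group. -/
theorem autGroup_baseO_eq {F' : FusionSystem S} (hF : F.IsSaturated 2) (hF' : F'.IsSaturated 2)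
    (hA : Adapted F d) (hA' : Adapted F' d) : F.autGroup (baseO d) = F'.autGroup (baseO d) := by
  obtain ⟨β, hβ, hβv⟩ := hA
  obtain ⟨β', hβ', hβ'v⟩ := hA'
  have e : β' = β := MulEquiv.ext fun t => Subtype.ext (by
    obtain ⟨a, b, ht⟩ := (mem_baseO d).1 t.2
    rw [hβv a b t ht, hβ'v a b t ht])
  subst e
  obtain ⟨σ, hσ, hσ2, hσv, -⟩ := exists_swap (F := F) d
  obtain ⟨σ', hσ', -, hσ'v, -⟩ := exists_swap (F := F') d
  have e : σ' = σ := MulEquiv.ext fun t => Subtype.ext (by
    obtain ⟨a, b, ht⟩ := (mem_baseO d).1 t.2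
    rw [hσv a b t ht, hσ'v a b t ht])
  subst e
  let t₀ : baseO d := ⟨_, el_mem_baseO d 1 0⟩
  have hone : ∀ a b c e : ℤ, ((el x y a b : S) : Ω) = (el x y c e : S) → nn n ∣ c - a :=
    fun a b c e h => (d.el_inj.1 (Subtype.ext h)).1
  have h4 : (4 : ℤ) ≤ nn n := by
    rw [nn, show (4 : ℤ) = 2 ^ 2 by norm_num]
    exact pow_le_pow_right₀ (by norm_num) d.le
  have hnd : ¬ nn n ∣ (1 : ℤ) := fun h => by have := Int.le_of_dvd one_pos h; omega
  have ho2 : orderOf σ' = 2 := by
    refine orderOf_eq_prime (by rw [pow_two, hσ2]) fun h => hnd ?_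
    have h1 := hσv 1 0 t₀ rfl
    rw [h] at h1
    exact dvd_neg.1 (by simpa using hone _ _ _ _ h1)
  have ho3 : orderOf β' = 3 := by
    haveI : Fact (Nat.Prime 3) := ⟨Nat.prime_three⟩
    refine orderOf_eq_prime (MulEquiv.ext fun t => Subtype.ext ?_) fun h => hnd ?_
    · obtain ⟨a, b, ht⟩ := (mem_baseO d).1 t.2
      rw [pow_succ, pow_succ, pow_one, MulAut.mul_apply, MulAut.mul_apply, MulAut.one_apply,
        hβv _ _ _ (hβv _ _ _ (hβv a b t ht)), ht]
      congr 2 <;> ring
    · have h1 := hβv 1 0 t₀ rfl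
      rw [h] at h1
      exact dvd_neg.1 (by simpa using hone _ _ _ _ h1)
  rw [Adapted.eq_closure d hF hβ hσ ho3 ho2, Adapted.eq_closure d hF' hβ' hσ' ho3 ho2]

/-- An active system has an adapted triple. -/
theorem exists_adapted (hF : F.IsSaturated 2) (hact : Active F (baseO d)) :
    ∃ (x' y' : S) (d' : WRTriple n x' y' z), Adapted F d' := by
  haveI := finite_mulAut_baseO d
  haveI : Fact (Nat.Prime 2) := ⟨Nat.prime_two⟩
  haveI : Finite (baseO d) := finite_of_le (Subgroup.map_subtype_le _)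
  obtain ⟨hle, hker⟩ := card_autGroup_baseO_le d hF
  obtain ⟨β, hβF, hodd, hne⟩ := hact
  obtain ⟨σ, hσF, hσ2, hσv, -⟩ := exists_swap (F := F) d
  let a₁ : baseO d := ⟨_, el_mem_baseO d (hw n) 0⟩
  let a₂ : baseO d := ⟨_, el_mem_baseO d 0 (hw n)⟩
  have h₁ : a₁ * a₁ = 1 := mk_baseO_sq d dvd_rfl (dvd_zero _)
  have hσa : σ a₁ = a₂ := Subtype.ext (hσv _ _ _ rfl)
  have ha₁ : a₁ ≠ 1 := fun h => d.el_hw_ne_one_left 0 (Subtype.ext (congrArg Subtype.val h :))
  have ha₁₂ : a₁ ≠ a₂ := fun h => d.not_nn_dvd_hw (by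
    simpa using (d.el_inj.1 (Subtype.ext (congrArg Subtype.val h :) : el x y (hw n) 0 = el x y 0 (hw n))).2)
  have hσo : orderOf σ = 2 :=
    orderOf_eq_prime (by rw [pow_two, hσ2]) fun h => ha₁₂ (by rw [← hσa, h]; rfl)
  have hβo : orderOf β = 3 := by
    have h1 : orderOf β * 2 ∣ Nat.card (F.autGroup (baseO d)) :=
      Nat.Coprime.mul_dvd_of_dvd_of_dvd (Nat.coprime_two_right.2 hodd)
        (Subgroup.orderOf_dvd_natCard _ hβF) (hσo ▸ Subgroup.orderOf_dvd_natCard _ hσF)
    have h2 := Nat.le_of_dvd Nat.card_pos h1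
    have h3 : orderOf β ≠ 1 := fun h => hne (orderOf_eq_one_iff.1 h)
    obtain ⟨k, hk⟩ := hodd
    omega
  have hβ3 : β ^ 3 = 1 := hβo ▸ pow_orderOf_eq_one β
  -- `σ` inverts `β`
  have hinv : σ * β * σ = β⁻¹ := by
    let U := (Subgroup.zpowers β).subgroupOf (F.autGroup (baseO d))
    have hU : U.index = 2 := by
      have h1 := U.card_mul_index
      rw [Nat.card_congr (Subgroup.subgroupOfEquivOfLe (Subgroup.zpowers_le.2 hβF)).toEquiv,
        Nat.card_zpowers, hβo] at h1
      have h6 : 6 ∣ Nat.card (F.autGroup (baseO d)) := Nat.Coprime.mul_dvd_of_dvd_of_dvd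
        (by decide : Nat.Coprime 3 2) (hβo ▸ Subgroup.orderOf_dvd_natCard _ hβF)
        (hσo ▸ Subgroup.orderOf_dvd_natCard _ hσF)
      have := Nat.le_of_dvd Nat.card_pos h6
      omega
    haveI := Subgroup.normal_of_index_eq_two hU
    have hmem := Subgroup.mem_subgroupOf.1 (‹U.Normal›.conj_mem ⟨β, hβF⟩
      (Subgroup.mem_subgroupOf.2 (Subgroup.mem_zpowers β)) ⟨σ, hσF⟩)
    simp only [Subgroup.coe_mul, Subgroup.coe_inv, inv_eq_of_mul_eq_one_right hσ2] at hmem
    obtain ⟨k, hk⟩ := hmem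
    have hk' : σ * β * σ = β ^ (k % 3) := by
      refine hk.symm.trans ?_
      show β ^ k = β ^ (k % 3)
      rw [← zpow_mod_orderOf β k, hβo]; rfl
    have hcases : k % 3 = 0 ∨ k % 3 = 1 ∨ k % 3 = 2 := by omega
    rcases hcases with h | h | h <;> rw [h] at hk'
    · exfalso
      rw [zpow_zero] at hk'
      apply hne
      calc β = σ * (σ * β * σ) * σ := by
            rw [show σ * (σ * β * σ) * σ = (σ * σ) * β * (σ * σ) by group, hσ2, one_mul, mul_one]
        _ = 1 := by rw [hk', mul_one, hσ2]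
    · exfalso
      rw [zpow_one] at hk'
      -- the only involution fixed by `σ` is then fixed by `β`
      let c : baseO d := a₁ * a₂
      have hcσ : σ c = c := by
        show σ (a₁ * a₂) = a₁ * a₂
        rw [map_mul, hσa, ← hσa, ← MulAut.mul_apply, hσ2, MulAut.one_apply, hσa, comm_baseO d a₂ a₁]
      have hcomm : σ * β = β * σ := by
        calc σ * β = (σ * β * σ) * σ := by rw [mul_assoc (σ * β), hσ2, mul_one]
          _ = β * σ := by rw [hk']
      have hc2 : c * c = 1 := by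
        show a₁ * a₂ * (a₁ * a₂) = 1
        rw [(show Commute a₂ a₁ from comm_baseO d _ _).mul_mul_mul_comm, h₁, one_mul, ← hσa,
          ← map_mul, h₁, map_one]
      have hd : β c * β c = 1 := by rw [← map_mul, hc2, map_one]
      have hfix : σ (β c) = β c := by rw [← MulAut.mul_apply, hcomm, MulAut.mul_apply, hcσ]
      have hc1 : c ≠ 1 := fun h => ha₁₂ (by
        calc a₁ = a₁ * (a₂ * a₂) := by rw [← hσa, ← map_mul, h₁, map_one, mul_one]
          _ = a₂ := by rw [← mul_assoc, show a₁ * a₂ = 1 from h, one_mul])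
      have hbc : β c = c := by
        obtain ⟨a, b, hab⟩ := (mem_baseO d).1 (β c).2
        have h1 : el x y a b * el x y a b = 1 := Subtype.ext (by
          rw [Subgroup.coe_mul, ← hab]; exact congrArg Subtype.val hd)
        have h2 := hσv a b _ hab
        rw [hfix, hab] at h2
        rcases d.el_invol h1 with h | h | h | h <;> rw [h] at hab
        · exact absurd (β.injective ((Subtype.ext hab : β c = 1).trans (map_one β).symm)) hc1
        · exact absurd ((hσa.symm.trans ((congrArg σ (Subtype.ext hab : β c = a₁)).symm.trans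
            hfix)).trans (Subtype.ext hab)).symm ha₁₂
        · refine absurd ?_ ha₁₂
          have h3 : β c = a₂ := Subtype.ext hab
          rw [h3, ← hσa, ← MulAut.mul_apply, hσ2, MulAut.one_apply] at hfix
          exact hfix.trans hσa
        · refine Subtype.ext (hab.trans ?_)
          show _ = ((el x y (hw n) 0 : S) : Ω) * ((el x y 0 (hw n) : S) : Ω)
          rw [← Subgroup.coe_mul, d.el_mul, add_zero, zero_add]
      exact hc1 (fixedPointFree_baseO d hodd hne hbc)
    · rw [hk']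
      refine eq_inv_of_mul_eq_one_left ?_
      rw [← zpow_add_one]
      exact_mod_cast hβ3
  let ρ := σ * β
  have hρ2 : ρ * ρ = 1 := by
    show σ * β * (σ * β) = 1
    rw [← mul_assoc, hinv, inv_mul_cancel]
  -- a `ρ`-fixed generator
  obtain ⟨w, a, hwa, ha2, hρa⟩ : ∃ w a : baseO d, w ^ 2 ^ (n - 1) = a ∧ a * a = 1 ∧ ρ a ≠ a := by
    have hp : ∀ p q : ℤ, (⟨_, el_mem_baseO d p q⟩ : baseO d) ^ 2 ^ (n - 1) =
        ⟨_, el_mem_baseO d (p * hw n) (q * hw n)⟩ := fun p q => by
      apply Subtype.ext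
      rw [Subgroup.coe_pow]
      show ((el x y p q : S) : Ω) ^ 2 ^ (n - 1) = _
      rw [← Subgroup.coe_pow, ← zpow_natCast, d.el_zpow]
      congr 2 <;> simp [hw]
    by_cases h1 : ρ a₁ = a₁
    · refine ⟨⟨_, el_mem_baseO d 0 1⟩, a₂, (hp 0 1).trans (Subtype.ext (by simp [a₂])),
        by rw [← hσa, ← map_mul, h₁, map_one], fun h2 => ?_⟩
      have hρ1 : ρ = 1 := hker ρ (mul_mem hσF hβF) fun t ht => by
        obtain ⟨p, q, hpq⟩ := (mem_baseO d).1 t.2
        have h1' : el x y p q * el x y p q = 1 := Subtype.ext (by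
          rw [Subgroup.coe_mul, ← hpq]; exact congrArg Subtype.val ht)
        rcases d.el_invol h1' with h | h | h | h <;> rw [h] at hpq
        · rw [show t = 1 from Subtype.ext hpq, map_one]
        · rw [show t = a₁ from Subtype.ext hpq, h1]
        · rw [show t = a₂ from Subtype.ext hpq, h2]
        · rw [show t = a₁ * a₂ from Subtype.ext (hpq.trans (by
            show _ = ((el x y (hw n) 0 : S) : Ω) * ((el x y 0 (hw n) : S) : Ω)
            rw [← Subgroup.coe_mul, d.el_mul, add_zero, zero_add])), map_mul, h1, h2]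
      have : β = σ := by
        calc β = σ * σ * β := by rw [hσ2, one_mul]
          _ = σ := by rw [mul_assoc, show σ * β = 1 from hρ1, mul_one]
      rw [this, hσo] at hβo
      omega
    · exact ⟨⟨_, el_mem_baseO d 1 0⟩, a₁, (hp 1 0).trans (Subtype.ext (by simp [a₁])), h₁, h1⟩
  let e : baseO d := w * ρ w
  have hρe : ρ e = e := by
    show ρ (w * ρ w) = w * ρ w
    rw [map_mul]
    show ρ w * (ρ * ρ) w = w * ρ w
    rw [hρ2, MulAut.one_apply, comm_baseO d]
  have hβe : β e = σ e := by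
    calc β e = (σ * σ) (β e) := by rw [hσ2, MulAut.one_apply]
      _ = σ (ρ e) := rfl
      _ = σ e := by rw [hρe]
  have heh : e ^ 2 ^ (n - 1) = a * ρ a := by
    rw [← hwa, map_pow]
    exact (show Commute w (ρ w) from comm_baseO d _ _).mul_pow _
  have heh1 : e ^ 2 ^ (n - 1) ≠ 1 := fun h => hρa (by
    rw [heh] at h
    calc ρ a = a * a * ρ a := by rw [ha2, one_mul]
      _ = a := by rw [mul_assoc, h, mul_one])
  have hn : n - 1 + 1 = n := by have := d.le; omega
  have he2 : e ^ 2 ^ (n - 1) * e ^ 2 ^ (n - 1) = 1 := by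
    have hρa2 : ρ a * ρ a = 1 := by rw [← map_mul, ha2, map_one]
    calc e ^ 2 ^ (n - 1) * e ^ 2 ^ (n - 1) = a * ρ a * (ρ a * a) := by
          rw [heh, comm_baseO d (ρ a) a]
      _ = a * (ρ a * ρ a) * a := by group
      _ = 1 := by rw [hρa2, mul_one, ha2]
  have heo : orderOf e = 2 ^ n := by
    rw [show (2 : ℕ) ^ n = 2 ^ (n - 1 + 1) by rw [hn]]
    refine orderOf_eq_prime_pow heh1 ?_
    rw [pow_succ, pow_mul, pow_two]
    exact he2
  obtain ⟨p, q, hpq⟩ := (mem_baseO d).1 e.2
  let x' : S := el x y p q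
  have hx' : (e : Ω) = (x' : S) := hpq
  let y' : S := el x y q p
  have hy' : ((β e : baseO d) : Ω) = (y' : S) := by rw [hβe]; exact hσv p q e hpq
  have hβββ : β (β e) = (e * β e)⁻¹ := by
    refine eq_inv_of_mul_eq_one_right (fixedPointFree_baseO d hodd hne ?_)
    rw [map_mul, map_mul, show β (β (β e)) = e from by
      rw [← MulAut.mul_apply, ← MulAut.mul_apply, ← pow_three', hβ3, MulAut.one_apply]]
    exact (comm_baseO d (β e * β (β e)) e).trans (mul_assoc e (β e) (β (β e))).symm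
  have d' : WRTriple n x' y' z :=
    { le := d.le
      card := d.card
      ox := by rw [← heo, ← Subgroup.orderOf_coe x', ← Subgroup.orderOf_coe e, hx']
      comm := (d.commute_el_el p q q p).eq
      disj := by
        rw [eq_bot_iff]
        rintro g ⟨⟨i, hi⟩, ⟨j, hj⟩⟩
        rw [Subgroup.mem_bot]
        by_contra hg1
        have hij : e ^ i = β (e ^ j) := by
          apply Subtype.ext
          rw [map_zpow, Subgroup.coe_zpow, Subgroup.coe_zpow, hx', hy', ← Subgroup.coe_zpow,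
            ← Subgroup.coe_zpow]
          exact congrArg Subtype.val (hi.trans hj.symm)
        have hgi : e ^ i ≠ 1 := fun h => hg1 (by
          rw [← hi]
          apply Subtype.ext
          show ((x' ^ i : S) : Ω) = _
          rw [Subgroup.coe_zpow, ← hx', ← Subgroup.coe_zpow, h]
          rfl)
        -- reduce to the involutions
        obtain ⟨k, hk⟩ := (isPGroup_baseO d) (e ^ i)
        suffices ∀ (k : ℕ) (i j : ℤ), e ^ i = β (e ^ j) → (e ^ i) ^ 2 ^ k = 1 → e ^ i = 1 from
          hgi (this k i j hij hk)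
        intro k
        induction k with
        | zero => intro i j _ h; simpa using h
        | succ k ih =>
          intro i j h hk
          have h2 : e ^ i * e ^ i = 1 := by
            rw [← zpow_add]
            refine ih (i + i) (j + j) ?_ ?_
            · rw [zpow_add, zpow_add, map_mul, ← h]
            · rw [zpow_add, ← pow_two, ← pow_mul, ← pow_succ']; exact hk
          have hinv2 : ∀ i : ℤ, e ^ i * e ^ i = 1 → e ^ i = 1 ∨ e ^ i = e ^ 2 ^ (n - 1) := by
            intro i hi2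
            rw [← zpow_add, ← two_mul, ← orderOf_dvd_iff_zpow_eq_one, heo, ← hn] at hi2
            push_cast at hi2
            rw [pow_succ', mul_dvd_mul_iff_left two_ne_zero] at hi2
            obtain ⟨m, hm⟩ := hi2
            have e1 : e ^ i = (e ^ 2 ^ (n - 1)) ^ m := by
              rw [← zpow_natCast e, ← zpow_mul, hm]
              push_cast
              rfl
            rw [e1]
            rcases Int.even_or_odd' m with ⟨r, rfl | rfl⟩
            · left; rw [zpow_mul, zpow_two, he2, one_zpow]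
            · right; rw [zpow_add, zpow_mul, zpow_two, he2, one_zpow, one_mul, zpow_one]
          rcases hinv2 i h2 with h1 | h1
          · exact h1
          · have h3 : e ^ j * e ^ j = 1 := β.injective (by rw [map_mul, ← h, h2, map_one])
            rcases hinv2 j h3 with h4 | h4
            · rw [h, h4, map_one]
            · exfalso
              refine heh1 (fixedPointFree_baseO d hodd hne ?_)
              rw [← h4, ← h, h1, h4]
      oz := d.oz
      rel := d.conj_z_el p q }
  refine ⟨x', y', d', ?_⟩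
  have hbase : d'.base = d.base := by
    refine d.eq_base_of_isMulCommutative ⟨⟨base_comm d'⟩⟩ d'.card_base
  have key : ∀ P : Subgroup Ω, P = baseO d → ∃ β' ∈ F.autGroup P, ∀ (a b : ℤ) (t : P),
      (t : Ω) = (el x' y' a b : S) → ((β' t : P) : Ω) = (el x' y' (-b) (a - b) : S) := by
    rintro P rfl
    refine ⟨β, hβF, fun a b t ht => ?_⟩
    have ht' : t = e ^ a * β e ^ b := Subtype.ext (by
      rw [ht, el, Subgroup.coe_mul, Subgroup.coe_mul, Subgroup.coe_zpow, Subgroup.coe_zpow,
        Subgroup.coe_zpow, Subgroup.coe_zpow, hx', hy'])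
    rw [ht', map_mul, map_zpow, map_zpow, hβββ, el, Subgroup.coe_mul, Subgroup.coe_mul,
      Subgroup.coe_zpow, Subgroup.coe_zpow, Subgroup.coe_zpow, Subgroup.coe_zpow, ← hx', ← hy',
      ← Subgroup.coe_zpow, ← Subgroup.coe_zpow, ← Subgroup.coe_zpow, ← Subgroup.coe_zpow,
      ← Subgroup.coe_mul, ← Subgroup.coe_mul]
    congr 1
    rw [(show Commute e (β e) from comm_baseO d _ _).mul_inv, (show Commute e⁻¹ (β e)⁻¹ from
      comm_baseO d _ _).mul_zpow, inv_zpow, inv_zpow, ← mul_assoc, comm_baseO d (β e ^ a),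
      zpow_neg, mul_assoc, ← zpow_neg (β e), ← zpow_add, ← sub_eq_add_neg]
  exact key _ (congrArg (Subgroup.map S.subtype) hbase)

end aut

/-- Wreathed case: the system of `PSL(3,p)`. -/
theorem realizedBy_psl_three_wreathed {F : FusionSystem S} (hS : IsPGroup 2 S)
    (hF : F.IsSaturated 2) (hfoc : F.focalSubgroup = S) (hw' : Cfsg.IsWreathed S) :
    ∃ (p : ℕ) (_ : Fact p.Prime), Odd p ∧ p % 4 = 1 ∧
      ∃ ι : S →* Matrix.ProjectiveSpecialLinearGroup (Fin 3) (ZMod p), F.IsRealizedBy ι ∧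
        ∃ T : Sylow 2 (Matrix.ProjectiveSpecialLinearGroup (Fin 3) (ZMod p)),
          (T : Subgroup (Matrix.ProjectiveSpecialLinearGroup (Fin 3) (ZMod p))) = ι.range := by
  haveI : Fact (Nat.Prime 2) := ⟨Nat.prime_two⟩
  obtain ⟨p, hp, hodd, h4, ι, hι, T, hT⟩ := exists_psl_three_model_wreathed hw'
  have hcomm : commutator (Matrix.ProjectiveSpecialLinearGroup (Fin 3) (ZMod p)) = ⊤ :=
    CfsgLib.Linear.commutator_PSL_eq_top (by simp)
  obtain ⟨m, x, y, z, d⟩ := exists_wrTriple hw'
  have hsat := isSaturated_pull (hι := hι) T hT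
  obtain ⟨x₁, y₁, d₁, A₁⟩ := exists_adapted d hF (active_of_focal (wreathedFrame d) hS hF hfoc 0)
  obtain ⟨x₂, y₂, d₂, A₂⟩ := exists_adapted d hsat
    ((wreathedFrame d).all_active (hι := hι) hS T hT (hcomm ▸ le_top) 0)
  obtain ⟨e, hev, -⟩ := exists_equiv_of_wrTriple d₁ d₂
  let ι' := ι.comp e.toMonoidHom
  have hι' : Function.Injective ι' := hι.comp e.injective
  have hT' : (T : Subgroup _) = ι'.range := by
    rw [MonoidHom.range_comp, MonoidHom.range_eq_top.2 e.surjective, ← MonoidHom.range_eq_map, hT]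
  have hsat' := isSaturated_pull (hι := hι') T hT'
  have A' : Adapted (pull ι' hι') d₁ := by
    obtain ⟨β, hβ, hβv⟩ := A₁
    obtain ⟨β₂, hβ₂, hβ₂v⟩ := A₂
    obtain ⟨_, _, g, hg⟩ :=
      (mem_autGroup_iff (F := pull ι hι) (Subgroup.map_subtype_le _)).1 hβ₂
    refine ⟨β, (mem_autGroup_iff (F := pull ι' hι') (Subgroup.map_subtype_le _)).2
      ⟨Subgroup.map_subtype_le _, fun t => Subgroup.map_subtype_le _ (β t).2, g, fun t => ?_⟩, hβv⟩
    obtain ⟨a, b, ht⟩ := (mem_baseO d₁).1 t.2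
    have h2 := hg ⟨_, el_mem_baseO d₂ a b⟩
    have e1 : (⟨((β t : baseO d₁) : Ω), Subgroup.map_subtype_le _ (β t).2⟩ : S) =
        el x₁ y₁ (-b) (a - b) := Subtype.ext (hβv a b t ht)
    have e2 : (⟨(t : Ω), Subgroup.map_subtype_le _ t.2⟩ : S) = el x₁ y₁ a b := Subtype.ext ht
    show ι' (⟨((β t : baseO d₁) : Ω), _⟩ : S) = g * ι' ⟨(t : Ω), _⟩ * g⁻¹
    rw [e1, e2]
    show ι (e _) = g * ι (e _) * g⁻¹
    rw [hev, hev]
    refine Eq.trans ?_ (h2.trans ?_)
    · exact congrArg ι (Subtype.ext (hβ₂v a b _ rfl).symm)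
    · rfl
  have fr := wreathedFrame d₁
  have ha := active_of_focal fr hS hF hfoc
  have hb := fun i => fr.all_active (hι := hι') hS T hT' (hcomm ▸ le_top) i
  have h1 : F ≤ pull ι' hι' := fr.le_of_active hS hF fun i hfn _ => by
    revert hfn
    fin_cases i
    · exact fun _ => (autGroup_baseO_eq d₁ hF hsat' A₁ A').le
    · exact fun hfn => rigid_autSub d₁ F _ hF hsat' hfn (ha 1) (hb 1)
  have h2 : pull ι' hι' ≤ F := fr.le_of_active hS hsat' fun i hfn _ => by
    revert hfn
    fin_cases i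
    · exact fun _ => (autGroup_baseO_eq d₁ hF hsat' A₁ A').ge
    · exact fun hfn => rigid_autSub d₁ _ F hsat' hF hfn (hb 1) (ha 1)
  have he : F = pull ι' hι' := fusionSystem_ext fun P => Set.Subset.antisymm (h1 P) (h2 P)
  exact ⟨p, hp, hodd, h4, ι', he ▸ pull_isRealizedBy, T, hT'⟩

end CfsgLib.Classification.RankTwoFusion
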