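import Cfsg.Agent.MaxClassRealize.MPairFrame
import Cfsg.Agent.TwoGroups.WreathedAut
import Cfsg.Agent.Fusion.Saturation
import Cfsg.Agent.FusionSimple.Invariant

/-!
The two candidate classes of a wreathed group: the base group and `Q * Z(S)`; the second is rigid.
-/

set_option autoImplicit false
set_option linter.style.haveILetI false

namespace CfsgLib.Classification.RankTwoFusion

open Cfsg Cfsg.FusionSystem CfsgLib.Fusion CfsgLib.MaxClassRealize CfsgLib.TwoGroups

universe u

section rigid

variable {Ω : Type u} [Group Ω] {S : Subgroup Ω} [Finite S]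

/-- Rigidity from a normal subgroup of `Aut X` containing `Aut_S(X)` and the elements of odd order. -/
theorem rigid_of_normal (hS : IsPGroup 2 S) (X : Subgroup S) (A : Subgroup (MulAut X)) [A.Normal]
    (N : ℕ) (hR : X.normalizerMonoidHom.range ≤ A) (hodd : ∀ α : MulAut X, Odd (orderOf α) → α ∈ A)
    (h1 : Nat.card A ≤ 3 * N) (h2 : N ≤ Nat.card X.normalizerMonoidHom.range) : Rigid X := by
  intro F F' hF _ hfn _ hact
  obtain ⟨α, hα, hαodd, hne⟩ := hact
  haveI : Fact (Nat.Prime 2) := ⟨Nat.prime_two⟩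
  let c := X.equivMapOfInjective S.subtype S.subtype_injective
  let C := MulAut.congr c
  haveI : Finite (X.map S.subtype) := Finite.of_equiv _ c.toEquiv
  haveI : Finite (MulAut (X.map S.subtype)) :=
    Finite.of_injective (fun a => (a : X.map S.subtype → X.map S.subtype)) DFunLike.coe_injective
  let A' : Subgroup (MulAut (X.map S.subtype)) := A.map C.toMonoidHom
  haveI hA' : A'.Normal := Subgroup.Normal.map inferInstance _ C.surjective
  have hmemA' : ∀ β : MulAut (X.map S.subtype), Odd (orderOf β) → β ∈ A' := fun β hβ =>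
    ⟨C.symm β, hodd _ (by rwa [MulEquiv.orderOf_eq]), C.apply_symm_apply β⟩
  let R : Subgroup (MulAut (X.map S.subtype)) := X.normalizerMonoidHom.range.map C.toMonoidHom
  have hXS : X.map S.subtype ≤ S := Subgroup.map_subtype_le _
  have hcv : ∀ t : X, ((c t : X.map S.subtype) : Ω) = ((t : S) : Ω) := fun t => rfl
  have hRF : ∀ G : FusionSystem S, R ≤ G.autGroup (X.map S.subtype) := by
    rintro G _ ⟨_, ⟨⟨g, hg⟩, rfl⟩, rfl⟩
    refine autInducedBy_le_autGroup hXS (Subgroup.subset_closure ⟨g, g.2, fun t => ?_⟩)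
    obtain ⟨t, rfl⟩ := c.surjective t
    show ((C (X.normalizerMonoidHom ⟨g, hg⟩) (c t) : X.map S.subtype) : Ω) = _
    simp [C, c, MulAut.congr]
  have hSR : autInducedBy S (X.map S.subtype) ≤ R := by
    refine (Subgroup.closure_le _).2 ?_
    rintro β ⟨g, hg, hgβ⟩
    have hn : (⟨g, hg⟩ : S) ∈ Subgroup.normalizer (X : Set S) := by
      refine mem_normalizer_of_conj_mem (fun t ht => ?_)
      obtain ⟨u, hu, hue⟩ := (β (c ⟨t, ht⟩)).2
      have h := hgβ (c ⟨t, ht⟩)
      rw [← hue] at h
      exact (Subtype.ext h : u = ⟨g, hg⟩ * t * ⟨g, hg⟩⁻¹) ▸ hu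
    refine ⟨_, ⟨⟨_, hn⟩, rfl⟩, MulEquiv.ext fun t => Subtype.ext ?_⟩
    obtain ⟨t, rfl⟩ := c.surjective t
    rw [hgβ]
    show ((C (X.normalizerMonoidHom ⟨⟨g, hg⟩, hn⟩) (c t) : X.map S.subtype) : Ω) = _
    simp [C, c, MulAut.congr]
  have hFA : F.autGroup (X.map S.subtype) ≤ A' := by
    intro γ hγ
    obtain ⟨-, Q, hQ⟩ := (automized_receptive hS hF hfn).1
    have hle : (Q : Subgroup (F.autGroup (X.map S.subtype))) ≤
        A'.subgroupOf (F.autGroup (X.map S.subtype)) := by
      rw [hQ]
      exact fun b hb => Subgroup.mem_subgroupOf.2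
        (Subgroup.map_mono hR (hSR (Subgroup.mem_subgroupOf.1 hb)))
    obtain ⟨k, m, hm, hord⟩ := Nat.exists_eq_two_pow_mul_odd (orderOf_pos γ).ne'
    have ha : γ ^ 2 ^ k ∈ A' := hmemA' _ (by
      rw [orderOf_pow, hord, Nat.gcd_eq_right (dvd_mul_right _ _),
        Nat.mul_div_cancel_left _ (pow_pos two_pos k)]
      exact hm)
    have hb : γ ^ m ∈ A' := by
      refine Subgroup.mem_subgroupOf.1 (FusionSimple.mem_of_normal_of_sylow_le
        (inferInstance : (A'.subgroupOf (F.autGroup (X.map S.subtype))).Normal) Q hle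
        (x := ⟨γ ^ m, pow_mem hγ m⟩) (k := k) ?_)
      rw [← Subgroup.orderOf_coe]
      show orderOf (γ ^ m) = _
      rw [orderOf_pow, hord, Nat.gcd_eq_right (dvd_mul_left _ _), Nat.mul_div_cancel]
      exact hm.pos
    obtain ⟨a, b, hab⟩ : ∃ a b : ℤ, a * ((2 ^ k : ℕ) : ℤ) + b * (m : ℤ) = 1 :=
      Int.isCoprime_iff_nat_coprime.2 (by
        simp only [Int.natAbs_natCast]; exact (Nat.coprime_two_left.2 hm).pow_left k)
    have : γ = (γ ^ 2 ^ k) ^ a * (γ ^ m) ^ b := by
      rw [← zpow_natCast γ (2 ^ k), ← zpow_natCast γ m, ← zpow_mul, ← zpow_mul, ← zpow_add,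
        mul_comm _ a, mul_comm _ b, hab, zpow_one]
    rw [this]
    exact mul_mem (zpow_mem ha a) (zpow_mem hb b)
  suffices hh : A' ⊓ F'.autGroup (X.map S.subtype) = A' from hFA.trans (inf_eq_left.1 hh)
  refine Subgroup.eq_of_le_of_card_ge (inf_le_left : A' ⊓ F'.autGroup (X.map S.subtype) ≤ A') ?_
  have h3 : 3 ≤ orderOf α := by
    have h0 := orderOf_pos α
    have h1' : orderOf α ≠ 1 := fun e => hne (orderOf_eq_one_iff.1 e)
    obtain ⟨k, hk⟩ := hαodd
    omega
  have hRp : IsPGroup 2 R :=
    ((hS.to_subgroup _).of_surjective X.normalizerMonoidHom.rangeRestrict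
      X.normalizerMonoidHom.rangeRestrict_surjective).map C.toMonoidHom
  obtain ⟨j, hj⟩ := hRp.exists_card_eq
  have hRc : Nat.card R = Nat.card X.normalizerMonoidHom.range :=
    Nat.card_congr (Subgroup.equivMapOfInjective _ _ C.injective).toEquiv.symm
  have hA'c : Nat.card A' = Nat.card A :=
    Nat.card_congr (Subgroup.equivMapOfInjective _ _ C.injective).toEquiv.symm
  have hdvd : Nat.card R * orderOf α ∣ Nat.card (A' ⊓ F'.autGroup (X.map S.subtype) : Subgroup _) := by
    refine Nat.Coprime.mul_dvd_of_dvd_of_dvd ?_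
      (Subgroup.card_dvd_of_le (le_inf (Subgroup.map_mono hR) (hRF F'))) ?_
    · rw [hj]; exact (Nat.coprime_two_left.2 hαodd).pow_left _
    · exact Subgroup.orderOf_dvd_natCard _ ⟨hmemA' α hαodd, hα⟩
  calc Nat.card A' ≤ orderOf α * Nat.card R := hA'c ▸ h1.trans (Nat.mul_le_mul h3 (hRc ▸ h2))
    _ ≤ _ := by rw [mul_comm]; exact Nat.le_of_dvd Nat.card_pos hdvd

end rigid

section frame

variable {T : Type u} [Group T] {n : ℕ} {x y z : T} (d : WRTriple n x y z)
include d

theorem isPGroup_wr : IsPGroup 2 T := IsPGroup.of_card d.card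

theorem eq_base_of_le {X : Subgroup T} (hC : Subgroup.centralizer (X : Set T) ≤ X)
    (hb : X ≤ d.base) : X = d.base := by
  refine le_antisymm hb fun u hu => hC fun v hv => ?_
  obtain ⟨a, b, rfl⟩ := d.mem_base.1 hu
  obtain ⟨a', b', rfl⟩ := d.mem_base.1 (hb hv)
  exact (d.commute_el_el _ _ _ _).eq

/-- The elements `el a b z^e` with `a + b` even. -/
def evenSub : Subgroup T where
  carrier := {g | ∃ a b : ℤ, (2 : ℤ) ∣ a + b ∧ (g = el x y a b ∨ g = el x y a b * z)}
  one_mem' := ⟨0, 0, by simp, Or.inl d.el_zero.symm⟩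
  mul_mem' := by
    rintro _ _ ⟨a, b, h, rfl | rfl⟩ ⟨c, e, h', rfl | rfl⟩
    · exact ⟨a + c, b + e, by rw [add_add_add_comm]; exact h.add h', Or.inl (d.el_mul _ _ _ _)⟩
    · exact ⟨a + c, b + e, by rw [add_add_add_comm]; exact h.add h', Or.inr (d.el_mul_elz _ _ _ _)⟩
    · exact ⟨a + e, b + c, by rw [show a + e + (b + c) = a + b + (c + e) by ring]; exact h.add h',
        Or.inr (d.elz_mul_el _ _ _ _)⟩
    · exact ⟨a + e, b + c, by rw [show a + e + (b + c) = a + b + (c + e) by ring]; exact h.add h',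
        Or.inl (d.elz_mul_elz _ _ _ _)⟩
  inv_mem' := by
    rintro _ ⟨a, b, h, rfl | rfl⟩
    · exact ⟨-a, -b, by rw [← neg_add, dvd_neg]; exact h, Or.inl (d.el_inv _ _)⟩
    · refine ⟨-b, -a, by rw [← neg_add, dvd_neg, add_comm]; exact h, Or.inr ?_⟩
      rw [inv_eq_iff_mul_eq_one, d.elz_mul_elz, d.el_eq_one]; simp

theorem commutator_le_evenSub : commutator T ≤ evenSub d := by
  rw [d.commutator_eq, Subgroup.zpowers_le]
  exact ⟨1, -1, by simp, Or.inl rfl⟩

theorem commutator_le_base : commutator T ≤ d.base := by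
  rw [d.commutator_eq, Subgroup.zpowers_le]
  exact d.el_mem_base _ _

theorem evenSub_ne_top : evenSub d ≠ ⊤ := fun h => by
  obtain ⟨a, b, hab, he | he⟩ := (h ▸ Subgroup.mem_top (el x y 1 0) : el x y 1 0 ∈ evenSub d)
  · obtain ⟨h1, h2⟩ := d.el_inj.1 he
    have h3 : (2 : ℤ) ∣ nn n := by rw [d.nn_eq]; exact dvd_mul_right _ _
    have := h3.trans h1
    have := h3.trans h2
    omega
  · exact d.elz_ne_el _ _ _ _ he.symm

theorem autSub_le_evenSub : d.autSub ≤ evenSub d := by
  rintro g ⟨a, b, h, hg⟩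
  refine ⟨a, b, ?_, hg⟩
  have := d.even_hw.trans h
  omega

theorem center_le_autSub : Subgroup.center T ≤ d.autSub := by
  intro g hg
  obtain ⟨a, b, rfl, hab⟩ := d.mem_center_iff.1 hg
  exact d.el_mem_autSub.2 (d.hw_dvd_nn.trans hab)

theorem center_le_base : Subgroup.center T ≤ d.base := by
  intro g hg
  obtain ⟨a, b, rfl, -⟩ := d.mem_center_iff.1 hg
  exact d.el_mem_base _ _

theorem center_cyclic : IsCyclic (Subgroup.center T) := by
  rw [d.center_eq]; infer_instance

theorem center_subgroupOf_autSub :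
    (Subgroup.center T).subgroupOf d.autSub = Subgroup.center ↥d.autSub := by
  ext a
  rw [Subgroup.mem_subgroupOf, Subgroup.mem_center_iff (G := ↥d.autSub)]
  constructor
  · intro ha b
    exact Subtype.ext (Subgroup.mem_center_iff.1 ha (b : T))
  · intro ha
    exact d.center_le_center d.autSub_not_comm ⟨a, Subgroup.mem_center_iff.2 ha, rfl⟩

/-- An automorphism of odd order of `Q * Z(S)` fixes the centre. -/
theorem autSub_fix_center {α : MulAut d.autSub} (hodd : Odd (orderOf α)) {t : d.autSub}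
    (ht : (t : T) ∈ Subgroup.center T) : α t = t := by
  haveI := d.finite
  haveI : Fact (Nat.Prime 2) := ⟨Nat.prime_two⟩
  let Z : Subgroup d.autSub := (Subgroup.center T).subgroupOf d.autSub
  have hZ : Z = Subgroup.center ↥d.autSub := center_subgroupOf_autSub d
  haveI : Z.Characteristic := hZ ▸ Subgroup.centerCharacteristic
  haveI : IsCyclic Z := by
    haveI := center_cyclic d
    exact isCyclic_of_surjective _
      (Subgroup.subgroupOfEquivOfLe (center_le_autSub d)).symm.surjective
  let r : MulAut Z := Z.equivMapOfInjective α.toMonoidHom α.injective |>.trans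
    (MulEquiv.subgroupCongr (Subgroup.characteristic_iff_map_eq.1 inferInstance α))
  have hpow : ∀ (k : ℕ) (a : Z), (((r ^ k) a : Z) : d.autSub) = (α ^ k) a := by
    intro k
    induction k with
    | zero => intro a; simp
    | succ k ih =>
      intro a
      rw [pow_succ', pow_succ', MulAut.mul_apply, MulAut.mul_apply, ← ih]
      rfl
  have h1 : r = 1 := eq_one_of_odd (isPGroup_mulAut_of_isCyclic ((isPGroup_wr d).to_subgroup _ |>.to_subgroup Z))
    (hodd.of_dvd_nat (orderOf_dvd_of_pow_eq_one (MulEquiv.ext fun a => Subtype.ext (by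
      rw [hpow, pow_orderOf_eq_one]; rfl))))
  have h2 := hpow 1 ⟨t, Subgroup.mem_subgroupOf.2 ht⟩
  rw [pow_one, pow_one, h1] at h2
  exact h2.symm

/-- The generators `i, j` of `Q`. -/
theorem exists_gens_autSub : ∃ i j : d.autSub, (i : T) * i = el x y (hw n) (hw n) ∧
    (j : T) * j = el x y (hw n) (hw n) ∧ (i : T)⁻¹ * j ∉ Subgroup.center T ∧
    (i : T) ∉ Subgroup.center T ∧ (j : T) ∉ Subgroup.center T ∧
    ∀ t : d.autSub, ∃ (w : T) (k : ℤ), w ∈ Subgroup.center T ∧
      ((t : T) = w * i ^ k ∨ (t : T) = w * i ^ k * j) := by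
  obtain ⟨q, hq⟩ := d.even_hw
  refine ⟨⟨el x y (q + hw n) q, d.el_mem_autSub.2 ⟨1, by ring⟩⟩,
    ⟨el x y q q * z, d.elz_mem_autSub.2 ⟨0, by ring⟩⟩, ?_, ?_, ?_, ?_, ?_, fun t => ?_⟩
  · show el x y (q + hw n) q * el x y (q + hw n) q = _
    rw [d.el_mul, d.el_inj]
    exact ⟨⟨-1, by rw [d.nn_eq]; linear_combination hq⟩, ⟨0, by linear_combination hq⟩⟩
  · show el x y q q * z * (el x y q q * z) = _
    rw [d.elz_mul_elz, d.el_inj]
    exact ⟨⟨0, by linear_combination hq⟩, ⟨0, by linear_combination hq⟩⟩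
  · intro h
    obtain ⟨a, b, he, -⟩ := d.mem_center_iff.1 h
    simp only [d.el_inv, d.el_mul_elz] at he
    exact d.elz_ne_el _ _ _ _ he
  · intro h
    obtain ⟨a, b, he, hab⟩ := d.mem_center_iff.1 h
    obtain ⟨h1, h2⟩ := d.el_inj.1 he
    have h3 := dvd_sub hab (dvd_sub h1 h2)
    rw [show a - b - (a - (q + hw n) - (b - q)) = hw n by ring] at h3
    exact d.not_nn_dvd_hw h3
  · intro h
    obtain ⟨a, b, he, -⟩ := d.mem_center_iff.1 h
    exact d.elz_ne_el _ _ _ _ he
  · obtain ⟨a, b, ⟨k, hk⟩, ht⟩ := t.2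
    have key : ∀ s : ℤ, el x y (s - q * k) (s - q * k) * el x y (q + hw n) q ^ k =
        el x y (s + hw n * k) s := fun s => by
      rw [d.el_zpow, d.el_mul]; congr 1 <;> ring
    rcases ht with ht | ht
    · refine ⟨el x y (b - q * k) (b - q * k), k, d.mem_center_iff.2 ⟨_, _, rfl, by simp⟩, Or.inl ?_⟩
      show (t : T) = el x y _ _ * el x y (q + hw n) q ^ k
      rw [key, ht, show b + hw n * k = a by linear_combination -hk]
    · refine ⟨el x y (b - q - q * k) (b - q - q * k), k,
        d.mem_center_iff.2 ⟨_, _, rfl, by simp⟩, Or.inr ?_⟩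
      show (t : T) = el x y _ _ * el x y (q + hw n) q ^ k * (el x y q q * z)
      rw [key, ht, d.el_mul_elz, show b - q + hw n * k + q = a by linear_combination -hk,
        sub_add_cancel]

theorem card_autSub_le : Nat.card d.autSub ≤ 4 * Nat.card (Subgroup.center T) := by
  haveI := d.finite
  obtain ⟨i, j, hi, hj, -, -, -, hgen⟩ := exists_gens_autSub d
  let f : Subgroup.center T × Fin 2 × Fin 2 → T := fun p =>
    (p.1 : T) * (i : T) ^ (p.2.1 : ℕ) * (j : T) ^ (p.2.2 : ℕ)
  have hsub : ∀ t : d.autSub, ∃ p, f p = t := by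
    intro t
    obtain ⟨w, k, hw', ht⟩ := hgen t
    have hc : el x y (hw n) (hw n) ∈ Subgroup.center T :=
      d.mem_center_iff.2 ⟨_, _, rfl, by simp⟩
    obtain ⟨l, r, hr, hk⟩ : ∃ (l : ℤ) (r : Fin 2), (r : ℕ) < 2 ∧ k = 2 * l + (r : ℕ) :=
      ⟨k / 2, ⟨(k % 2).toNat, by omega⟩, by omega, by simp; omega⟩
    have e : w * (i : T) ^ k = (w * el x y (hw n) (hw n) ^ l) * (i : T) ^ (r : ℕ) := by
      rw [hk, zpow_add, zpow_mul, zpow_two, hi, zpow_natCast, mul_assoc]
    rcases ht with ht | ht
    · exact ⟨(⟨_, mul_mem hw' (zpow_mem hc l)⟩, r, 0), by simp [f, ← e, ht]⟩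
    · exact ⟨(⟨_, mul_mem hw' (zpow_mem hc l)⟩, r, 1), by simp [f, ← e, ht]⟩
  choose g hg using hsub
  have hinj : Function.Injective g := fun a b h => Subtype.ext ((hg a).symm.trans (h ▸ hg b))
  refine (Nat.card_le_card_of_injective g hinj).trans (le_of_eq ?_)
  simp [Nat.card_prod]
  ring

/-- Automorphisms of odd order congruent to the identity modulo `N` on `Q * Z(S)`. -/
theorem autSub_move {N : Subgroup T} {α : MulAut d.autSub} (hodd : Odd (orderOf α)) (hne : α ≠ 1)
    (h : ∀ t : d.autSub, (t : T)⁻¹ * (α t : T) ∈ N) : d.autSub ≤ N ⊔ Subgroup.center T := by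
  haveI := d.finite
  by_contra hle
  refine hne (MulEquiv.ext fun t => ?_)
  have hp : IsPGroup 2 d.autSub := (isPGroup_wr d).to_subgroup _
  let Z : Subgroup d.autSub := (Subgroup.center T).subgroupOf d.autSub
  let K : Subgroup d.autSub := (N ⊔ Subgroup.center T).subgroupOf d.autSub
  have hK : ∀ t : d.autSub, t⁻¹ * α t ∈ K := fun t =>
    Subgroup.mem_subgroupOf.2 (Subgroup.mem_sup_left (h t))
  have hZK : Z ≤ K := fun a ha => Subgroup.mem_subgroupOf.2 (Subgroup.mem_sup_right ha)
  have hKtop : K ≠ ⊤ := fun e => hle fun g hg => Subgroup.mem_subgroupOf.1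
    (e ▸ Subgroup.mem_top (⟨g, hg⟩ : d.autSub) : (⟨g, hg⟩ : d.autSub) ∈ K)
  have hfixZ : ∀ a ∈ Z, α a = a := fun a ha => autSub_fix_center d hodd ha
  have hαK : ∀ k ∈ K, α k ∈ K := fun k hk => by
    simpa [mul_inv_cancel_left] using K.mul_mem hk (hK k)
  have hfixK : ∀ k ∈ K, α k = k := by
    intro k hk
    refine fix_of_odd hp hodd (hfixZ _ ?_)
    let Z' := Z.subgroupOf K
    have hi : Z'.index = 1 ∨ Z'.index = 2 := by
      have e1 : Z'.index * Nat.card Z = Nat.card K := by
        rw [← Z'.index_mul_card, Nat.card_congr (Subgroup.subgroupOfEquivOfLe hZK).toEquiv]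
      have e2 := K.card_mul_index
      have e3 : 2 ≤ K.index := by
        have : K.index ≠ 1 := fun e => hKtop (Subgroup.index_eq_one.1 e)
        have : K.index ≠ 0 := K.index_ne_zero_of_finite
        omega
      have e4 := card_autSub_le d
      rw [← Nat.card_congr (Subgroup.subgroupOfEquivOfLe (center_le_autSub d)).toEquiv] at e4
      have e5 : 0 < Nat.card Z := Nat.card_pos
      have e6 : Z'.index ≠ 0 := Z'.index_ne_zero_of_finite
      have e7 : Z'.index * 2 * Nat.card Z ≤ 4 * Nat.card Z := by nlinarith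
      have := Nat.le_of_mul_le_mul_right e7 e5
      omega
    have goal : (⟨k, hk⟩ : K)⁻¹ * ⟨α k, hαK k hk⟩ ∈ Z' := by
      rcases hi with hi | hi
      · rw [Subgroup.index_eq_one.1 hi]; exact Subgroup.mem_top _
      · rw [Subgroup.mul_mem_iff_of_index_two hi, inv_mem_iff]
        simp only [Z', Subgroup.mem_subgroupOf]
        refine ⟨fun hk' => (hfixZ k hk').symm ▸ hk', fun hak => ?_⟩
        have e : α k = k := α.injective (hfixZ _ hak)
        rwa [e] at hak
    exact Subgroup.mem_subgroupOf.1 goal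
  exact fix_of_odd hp hodd (hfixK _ (hK t))

omit d in
/-- `Ω₁` detects automorphisms of odd order of abelian 2-groups. -/
theorem eq_one_of_fix_involutions {A : Type*} [Group A] [Finite A] (hA : IsPGroup 2 A)
    (hc : ∀ a b : A, a * b = b * a) {α : MulAut A} (hodd : Odd (orderOf α))
    (h : ∀ a : A, a * a = 1 → α a = a) : α = 1 := by
  have key : ∀ k : ℕ, ∀ a : A, a ^ 2 ^ k = 1 → α a = a := by
    intro k
    induction k with
    | zero => intro a ha; rw [show a = 1 by simpa using ha, map_one]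
    | succ k ih =>
      intro a ha
      have h2 : α (a * a) = a * a := ih _ (by rw [← pow_two, ← pow_mul, ← pow_succ']; exact ha)
      refine fix_of_odd hA hodd (h _ ?_)
      calc a⁻¹ * α a * (a⁻¹ * α a) = (a * a)⁻¹ * α (a * a) := by
            rw [mul_assoc, hc (α a), ← mul_assoc, ← mul_assoc, mul_assoc, ← map_mul, mul_inv_rev]
        _ = 1 := by rw [h2, inv_mul_cancel]
  refine MulEquiv.ext fun a => ?_
  obtain ⟨k, hk⟩ := hA a
  exact key k a hk

theorem base_invol {t : d.base} (ht : t * t = 1) : (t : T) = 1 ∨ (t : T) = el x y (hw n) 0 ∨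
    (t : T) = el x y 0 (hw n) ∨ (t : T) = el x y (hw n) (hw n) := by
  obtain ⟨a, b, hab⟩ := d.mem_base.1 t.2
  have h1 : el x y a b * el x y a b = 1 := hab ▸ congrArg Subtype.val ht
  rw [hab]
  exact d.el_invol h1

theorem base_comm (a b : d.base) : a * b = b * a := by
  obtain ⟨p, q, hp⟩ := d.mem_base.1 a.2
  obtain ⟨p', q', hp'⟩ := d.mem_base.1 b.2
  exact Subtype.ext (by show (a : T) * b = b * a; rw [hp, hp']; exact (d.commute_el_el _ _ _ _).eq)

/-- A nontrivial automorphism of odd order of the base group has no fixed element. -/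
theorem base_fixedPointFree {α : MulAut d.base} (hodd : Odd (orderOf α)) (hne : α ≠ 1) {t : d.base}
    (ht : α t = t) : t = 1 := by
  haveI := d.finite
  by_contra ht1
  -- a fixed involution
  obtain ⟨c, hc, hc1, hcf⟩ : ∃ c : d.base, c * c = 1 ∧ c ≠ 1 ∧ α c = c := by
    obtain ⟨k, hk⟩ := (isPGroup_wr d).to_subgroup d.base t
    induction k generalizing t with
    | zero => exact absurd (by simpa using hk) ht1
    | succ k ih =>
      by_cases h2 : t * t = 1
      · exact ⟨t, h2, ht1, ht⟩
      · exact ih (by rw [map_mul, ht]) h2 (by rw [← pow_two, ← pow_mul, ← pow_succ']; exact hk)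
  refine hne (eq_one_of_fix_involutions ((isPGroup_wr d).to_subgroup _) (base_comm d) hodd ?_)
  intro a ha
  by_contra hfa
  -- `α` swaps the two involutions other than `c`
  have hinj : ∀ u v : d.base, u ≠ v → (u : T) ≠ v := fun u v h e => h (Subtype.ext e)
  have hαa : α a * α a = 1 := by rw [← map_mul, ha, map_one]
  have ha1 : a ≠ 1 := fun e => hfa (by rw [e, map_one])
  have hαa1 : α a ≠ 1 := fun e => ha1 (α.injective (e.trans (map_one α).symm))
  have hca : a ≠ c := fun e => hfa (e ▸ hcf)
  have hcαa : α a ≠ c := fun e => hca (α.injective (e.trans hcf.symm))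
  have hαα1 : α (α a) ≠ 1 := fun e => hαa1 (α.injective (e.trans (map_one α).symm))
  have hcαα : α (α a) ≠ c := fun e => hcαa (α.injective (e.trans hcf.symm))
  have hαα : α (α a) = a := by
    by_contra hne2
    have hαα2 : α (α a) * α (α a) = 1 := by rw [← map_mul, hαa, map_one]
    have hne3 : α (α a) ≠ α a := fun e => hfa (α.injective e)
    have o1 := base_invol d ha
    have o2 := base_invol d hαa
    have o3 := base_invol d hαα2
    have o4 := base_invol d hc
    have n0 : ∀ u : d.base, u ≠ 1 → (u : T) ≠ 1 := fun u h e => h (Subtype.ext e)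
    grind
  have h2 : (α ^ 2) a = a := by rw [pow_two, MulAut.mul_apply, hαα]
  obtain ⟨r, hr⟩ := hodd
  have h3 : ∀ s : ℕ, (α ^ (2 * s)) a = a := by
    intro s
    induction s with
    | zero => simp
    | succ s ih => rw [mul_add, mul_one, pow_add, MulAut.mul_apply, h2, ih]
  have h4 := congrArg (fun β : MulAut d.base => β a) (pow_orderOf_eq_one α)
  simp only [hr, pow_succ', MulAut.mul_apply, MulAut.one_apply, h3] at h4
  exact hfa h4

/-- The frame of a wreathed group. -/
theorem wreathedFrame : Frame ![d.base, evenSub d] ![d.base, d.autSub] ![⊥, Subgroup.center T] where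
  normal i := by
    fin_cases i
    · exact Subgroup.Normal.of_commutator_le _ (commutator_le_base d)
    · exact Subgroup.Normal.of_commutator_le _ (commutator_le_evenSub d)
  ne_top i := by
    fin_cases i
    · exact fun h => d.elz_notMem_base 0 0 (by rw [show d.base = ⊤ from h]; exact Subgroup.mem_top _)
    · exact evenSub_ne_top d
  le i := by
    fin_cases i
    · exact le_rfl
    · exact autSub_le_evenSub d
  comm i := by
    fin_cases i
    · exact commutator_le_base d
    · exact commutator_le_evenSub d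
  autT := by
    by_contra h
    obtain ⟨g, hg⟩ := d.exists_conj_autSub (X := ⊤) le_top
      (fun hle => d.elz_notMem_base 0 0 (hle (Subgroup.mem_top _)))
      (fun hp => h (hp.of_equiv (MulAut.congr Subgroup.topEquiv)))
    refine evenSub_ne_top d (eq_top_iff.2 fun t _ => autSub_le_evenSub d ?_)
    have : g * t * g⁻¹ ∈ d.autSub.map (MulAut.conj g).toMonoidHom := hg ▸ Subgroup.mem_top _
    obtain ⟨u, hu, he⟩ := this
    exact (mul_left_cancel (mul_right_cancel (he : g * u * g⁻¹ = g * t * g⁻¹))) ▸ hu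
  cases X hX hC hA := by
    by_cases hb : X ≤ d.base
    · refine ⟨0, 1, ?_⟩
      rw [eq_base_of_le d hC hb]
      show d.base.map _ = d.base
      ext t; simp
    · obtain ⟨g, hg⟩ := d.exists_conj_autSub hC hb hA
      exact ⟨1, g, hg⟩
  move i N hN := by
    fin_cases i
    · show ∀ α : MulAut d.base, Odd (orderOf α) → α ≠ 1 →
        (∀ t : d.base, (t : T)⁻¹ * (α t : T) ∈ N) → d.base ≤ N ⊔ ⊥
      intro α hodd hne h
      haveI := d.finite
      refine le_sup_of_le_left fun g hg => ?_
      let δ : d.base →* d.base := MonoidHom.mk' (fun t => t⁻¹ * α t) fun a b => by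
        rw [map_mul, mul_inv_rev, base_comm d b⁻¹, mul_assoc, ← mul_assoc b⁻¹,
          base_comm d b⁻¹ (α a), mul_assoc, ← mul_assoc a⁻¹]
      have hinj : Function.Injective δ := (injective_iff_map_eq_one δ).2 fun t ht =>
        base_fixedPointFree d hodd hne (inv_mul_eq_one.1 (show t⁻¹ * α t = 1 from ht)).symm
      obtain ⟨t, ht⟩ := (Finite.injective_iff_surjective.1 hinj) ⟨g, hg⟩
      have := h t
      rwa [show (t : T)⁻¹ * (α t : T) = g from congrArg Subtype.val ht] at this
    · exact fun α hodd hne h => autSub_move d hodd hne h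
  gen N hN h := by
    have h0 : d.base ≤ N := by simpa using h 0
    have h1 : d.autSub ≤ N :=
      (h 1).trans (sup_le le_rfl ((center_le_base d).trans h0))
    refine eq_top_iff.2 fun g _ => ?_
    obtain ⟨a, b, rfl | rfl⟩ := d.eq_cases g
    · exact h0 (d.el_mem_base a b)
    · exact N.mul_mem (h0 (d.el_mem_base a b)) (h1 d.z_mem_autSub)

end frame

section rigidAut

variable {Ω : Type u} [Group Ω] {S : Subgroup Ω} [Finite S] {n : ℕ} {x y z : S}
  (d : WRTriple n x y z)
include d

theorem rigid_autSub : Rigid d.autSub := by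
  classical
  haveI : Fact (Nat.Prime 2) := ⟨Nat.prime_two⟩
  let Z : Subgroup d.autSub := (Subgroup.center S).subgroupOf d.autSub
  haveI hZ : Z.Characteristic := by
    have : Z = Subgroup.center ↥d.autSub := center_subgroupOf_autSub d
    rw [this]; infer_instance
  let A : Subgroup (MulAut d.autSub) :=
    { carrier := {α | ∀ a ∈ Z, α a = a}
      one_mem' := fun _ _ => rfl
      mul_mem' := fun {α β} hα hβ a ha => by rw [MulAut.mul_apply, hβ a ha, hα a ha]
      inv_mem' := fun {α} hα a ha => by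
        conv_lhs => rw [← hα a ha]
        exact α.symm_apply_apply a }
  haveI : A.Normal := ⟨fun α hα β a ha => by
    have h1 : β⁻¹ a ∈ Z := by
      have := (Subgroup.characteristic_iff_le_comap.1 hZ (β⁻¹ : MulAut d.autSub)) ha
      exact this
    show β (α (β⁻¹ a)) = a
    rw [hα _ h1]
    exact β.apply_symm_apply a⟩
  obtain ⟨i, j, hi, hj, hij, hi', hj', hgen⟩ := exists_gens_autSub d
  let c : S := el x y (hw n) (hw n)
  have hcz : c ∈ Subgroup.center S := d.mem_center_iff.2 ⟨_, _, rfl, by simp⟩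
  have hcA : c ∈ d.autSub := d.el_mem_autSub.2 (by simp)
  let P := {t : d.autSub // (t : S) ∉ Subgroup.center S ∧ (t : S) * t = c}
  have hP : Nat.card P ≤ 6 := by
    obtain ⟨q, hq⟩ := d.even_hw
    let L : Fin 6 → S := ![el x y q (q + hw n), el x y (q + hw n) (q + hw n + hw n),
      el x y q q * z, el x y (q + hw n) (q + hw n) * z, el x y 0 (hw n) * z,
      el x y (hw n) 0 * z]
    have hL : ∀ p : P, ∃ l, L l = (p.1 : S) := by
      rintro ⟨⟨t, a, b, ⟨k, hk⟩, rfl | rfl⟩, hnc, hsq⟩
      · have hsq' : el x y a b * el x y a b = el x y (hw n) (hw n) := hsq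
        rw [d.el_mul, d.el_inj] at hsq'
        obtain ⟨⟨r, hr⟩, -⟩ := hsq'
        have hodd : ¬ 2 ∣ k := by
          rintro ⟨l, rfl⟩
          exact hnc (d.mem_center_iff.2 ⟨a, b, rfl, l, by rw [d.nn_eq]; linear_combination hk⟩)
        have ha : a = q - hw n * r := mul_left_cancel₀ two_ne_zero (by
          rw [d.nn_eq] at hr; linear_combination -hr + hq)
        obtain ⟨l, hl⟩ : ∃ l, k = 2 * l + 1 := ⟨k / 2, by omega⟩
        rcases Int.even_or_odd' r with ⟨u, rfl | rfl⟩
        · refine ⟨0, (d.el_inj).2 ⟨⟨-u, ?_⟩, ⟨-u - l - 1, ?_⟩⟩⟩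
          · rw [d.nn_eq, ha]; ring
          · rw [d.nn_eq]; subst hl; linear_combination -hk + ha
        · refine ⟨1, (d.el_inj).2 ⟨⟨-u - 1, ?_⟩, ⟨-u - l - 2, ?_⟩⟩⟩
          · rw [d.nn_eq, ha]; ring
          · rw [d.nn_eq]; subst hl; linear_combination -hk + ha
      · have hsq' : el x y a b * z * (el x y a b * z) = el x y (hw n) (hw n) := hsq
        rw [d.elz_mul_elz, d.el_inj] at hsq'
        obtain ⟨⟨r, hr⟩, -⟩ := hsq'
        rcases Int.even_or_odd' k with ⟨l, rfl | rfl⟩
        · have ha : a = q - hw n * r + hw n * l := mul_left_cancel₀ two_ne_zero (by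
            rw [d.nn_eq] at hr; linear_combination -hr + hq + hk)
          rcases Int.even_or_odd' (l - r) with ⟨u, hu | hu⟩
          · refine ⟨2, d.elz_inj.2 ⟨⟨u, ?_⟩, ⟨u - l, ?_⟩⟩⟩
            · rw [d.nn_eq, ha]; linear_combination hw n * hu
            · rw [d.nn_eq]; linear_combination -hk + ha + hw n * hu
          · refine ⟨3, d.elz_inj.2 ⟨⟨u, ?_⟩, ⟨u - l, ?_⟩⟩⟩
            · rw [d.nn_eq, ha]; linear_combination hw n * hu
            · rw [d.nn_eq]; linear_combination -hk + ha + hw n * hu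
        · have ha : a = hw n * (l + 1 - r) := mul_left_cancel₀ two_ne_zero (by
            rw [d.nn_eq] at hr; linear_combination -hr + hk)
          rcases Int.even_or_odd' (l + 1 - r) with ⟨u, hu | hu⟩
          · refine ⟨4, d.elz_inj.2 ⟨⟨u, ?_⟩, ⟨u - l - 1, ?_⟩⟩⟩
            · rw [d.nn_eq, ha, hu]; ring
            · rw [d.nn_eq]; linear_combination -hk + ha + hw n * hu
          · refine ⟨5, d.elz_inj.2 ⟨⟨u, ?_⟩, ⟨u - l, ?_⟩⟩⟩
            · rw [d.nn_eq, ha, hu]; ring
            · rw [d.nn_eq]; linear_combination -hk + ha + hw n * hu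
    choose g hg using hL
    refine (Nat.card_le_card_of_injective g fun p p' h =>
      Subtype.ext (Subtype.ext ((hg p).symm.trans (h ▸ hg p')))).trans (by simp)
  have hci : c ≠ 1 := d.el_hw_ne_one_left _
  refine rigid_of_normal (isPGroup_wr d) _ A 8 ?_ ?_ ?_ ?_
  · rintro _ ⟨⟨g, hg⟩, rfl⟩ a ha
    refine Subtype.ext ?_
    show g * (a : S) * g⁻¹ = a
    rw [Subgroup.mem_center_iff.1 (Subgroup.mem_subgroupOf.1 ha) g, mul_inv_cancel_right]
  · exact fun α hα a ha => autSub_fix_center d hα (Subgroup.mem_subgroupOf.1 ha)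
  · -- images of `i` and `j`
    let D := Σ p : P, {p' : P // (p'.1 : S) ≠ p.1 ∧ (p'.1 : S) ≠ (p.1 : S) * c}
    have hAc : ∀ α ∈ A, ∀ t : d.autSub, ∀ w : d.autSub, (w : S) ∈ Subgroup.center S →
        α (t * w) = α t * w := fun α hα t w hw' => by
      rw [map_mul, hα w (Subgroup.mem_subgroupOf.2 hw')]
    have hAn : ∀ α ∈ A, ∀ t : d.autSub, (t : S) ∉ Subgroup.center S →
        (α t : S) ∉ Subgroup.center S := fun α hα t ht h => ht (by
      have h1 : α (α t) = α t := hα _ (Subgroup.mem_subgroupOf.2 h)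
      rwa [α.injective h1] at h)
    have hAs : ∀ α ∈ A, ∀ t : d.autSub, (t : S) * t = c → (α t : S) * α t = c := fun α hα t ht => by
      have h1 : α (t * t) = t * t := hα _ (Subgroup.mem_subgroupOf.2 (show (t : S) * t ∈ _ from ht ▸ hcz))
      rw [map_mul] at h1
      exact (congrArg Subtype.val h1).trans ht
    let f : A → D := fun α => ⟨⟨(α : MulAut d.autSub) i, hAn _ α.2 _ hi', hAs _ α.2 _ hi⟩,
      ⟨⟨(α : MulAut d.autSub) j, hAn _ α.2 _ hj', hAs _ α.2 _ hj⟩, fun e => hij ?_, fun e => hij ?_⟩⟩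
    · let g : A → d.autSub × d.autSub := fun α => ((f α).1.1, (f α).2.1.1)
      have hf : Function.Injective g := by
        intro α β h
        have h1 : (α : MulAut d.autSub) i = (β : MulAut d.autSub) i := congrArg Prod.fst h
        have h2 : (α : MulAut d.autSub) j = (β : MulAut d.autSub) j := congrArg Prod.snd h
        refine Subtype.ext (MulEquiv.ext fun t => ?_)
        obtain ⟨w, k, hw', ht⟩ := hgen t
        have hwA : w ∈ d.autSub := center_le_autSub d hw'
        have e1 : ∀ γ : A, (γ : MulAut d.autSub) ⟨w, hwA⟩ = ⟨w, hwA⟩ := fun γ =>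
          γ.2 _ (Subgroup.mem_subgroupOf.2 hw')
        rcases ht with ht | ht
        · rw [show t = ⟨w, hwA⟩ * i ^ k from Subtype.ext ht, map_mul, map_mul, e1, e1, map_zpow,
            map_zpow, h1]
        · rw [show t = ⟨w, hwA⟩ * i ^ k * j from Subtype.ext ht, map_mul, map_mul, map_mul, map_mul,
            e1, e1, map_zpow, map_zpow, h1, h2]
      have hf' : Function.Injective f := fun α β h =>
        hf (congrArg (fun p : D => (p.1.1, p.2.1.1)) h)
      haveI : Fintype P := Fintype.ofFinite P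
      have hfib : ∀ p : P, Nat.card {p' : P // (p'.1 : S) ≠ p.1 ∧ (p'.1 : S) ≠ (p.1 : S) * c} ≤ 4 := by
        intro p
        let p₂ : P := ⟨⟨(p.1 : S) * c, mul_mem p.1.2 hcA⟩,
          fun h => p.2.1 ((Subgroup.mul_mem_cancel_right _ hcz).1 h), by
            show (p.1 : S) * c * ((p.1 : S) * c) = c
            rw [mul_assoc, ← mul_assoc c, ← Subgroup.mem_center_iff.1 hcz (p.1 : S), mul_assoc,
              ← mul_assoc (p.1 : S) (p.1 : S), p.2.2,
              show c * c = 1 from d.el_sq_eq_one.2 ⟨dvd_rfl, dvd_rfl⟩, mul_one]⟩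
        have hne : p₂ ≠ p := fun h => hci
          (mul_eq_left.1 (congrArg (fun q : P => (q.1 : S)) h))
        rw [Nat.card_eq_fintype_card, Fintype.card_subtype]
        refine le_trans (Finset.card_le_card (t := (Finset.univ.erase p).erase p₂) ?_) ?_
        · intro p' hp'
          obtain ⟨h1, h2⟩ := (Finset.mem_filter.1 hp').2
          simp only [Finset.mem_erase, Finset.mem_univ, and_true]
          exact ⟨fun h => h2 (congrArg (fun q : P => (q.1 : S)) h),
            fun h => h1 (congrArg (fun q : P => (q.1 : S)) h)⟩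
        · rw [Finset.card_erase_of_mem (by simpa using hne), Finset.card_erase_of_mem (Finset.mem_univ _),
            Finset.card_univ, ← Nat.card_eq_fintype_card]
          omega
      calc Nat.card A ≤ Nat.card D := Nat.card_le_card_of_injective f hf'
        _ ≤ 6 * 4 := by
          rw [Nat.card_sigma]
          refine (Finset.sum_le_card_nsmul _ _ 4 fun p _ => hfib p).trans ?_
          rw [smul_eq_mul, Finset.card_univ, ← Nat.card_eq_fintype_card]
          exact Nat.mul_le_mul_right 4 hP
    · have h1 : (α : MulAut d.autSub) (i⁻¹ * j) = 1 := by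
        rw [map_mul, map_inv, show (α : MulAut d.autSub) j = (α : MulAut d.autSub) i from
          Subtype.ext e, inv_mul_cancel]
      have h2 : i⁻¹ * j = 1 := (α : MulAut d.autSub).injective (h1.trans (map_one _).symm)
      rw [show (i : S)⁻¹ * j = 1 from congrArg Subtype.val h2]
      exact one_mem _
    · have h1 : (α : MulAut d.autSub) j = (α : MulAut d.autSub) (i * ⟨c, hcA⟩) := by
        rw [hAc _ α.2 i _ hcz]; exact Subtype.ext e
      have h2 := congrArg Subtype.val ((α : MulAut d.autSub).injective h1)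
      rw [show (j : S) = i * c from h2, inv_mul_cancel_left]
      exact hcz
  · -- at least eight automorphisms induced by `S`
    let Nm := Subgroup.normalizer (d.autSub : Set S)
    have hker : ∀ g : Nm, g ∈ d.autSub.normalizerMonoidHom.ker → (g : S) ∈ Subgroup.center S := by
      intro g hg
      rw [Subgroup.normalizerMonoidHom_ker] at hg
      have hg' : (g : S) ∈ Subgroup.centralizer (d.autSub : Set S) := Subgroup.mem_subgroupOf.1 hg
      obtain ⟨a, b, he | he⟩ := d.eq_cases (g : S)
      · have h1 : Commute (el x y a b) (el x y 0 0 * z) := by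
          rw [← he]
          exact (hg' _ (d.elz_mem_autSub.2 (by simp))).symm
        exact d.mem_center_iff.2 ⟨a, b, he, d.commute_el_elz.1 h1⟩
      · have h1 : Commute (el x y (hw n) 0) (el x y a b * z) := by
          rw [← he]
          exact hg' _ (d.el_mem_autSub.2 (by simp))
        have h2 := d.commute_el_elz.1 h1
        rw [sub_zero] at h2
        exact absurd h2 d.not_nn_dvd_hw
    have hlt : ∀ {U V : Subgroup S}, U < V → 2 * Nat.card U ≤ Nat.card V := by
      intro U V h
      have h1 := U.relIndex_mul_relIndex ⊥ V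
      have := (U.subgroupOf V).card_mul_index
      rw [Nat.card_congr (Subgroup.subgroupOfEquivOfLe h.le).toEquiv] at this
      have h2 : (U.subgroupOf V).index ≠ 1 := fun e =>
        h.not_ge (Subgroup.subgroupOf_eq_top.1 (Subgroup.index_eq_one.1 e))
      have h3 : (U.subgroupOf V).index ≠ 0 := Subgroup.index_ne_zero_of_finite
      rw [← this]
      rw [mul_comm]
      exact Nat.mul_le_mul_left _ (by omega)
    let U := Subgroup.center S ⊔ Subgroup.zpowers (i : S)
    have h1 : Subgroup.center S < U := lt_of_le_of_ne le_sup_left fun e =>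
      hi' (by rw [e]; exact Subgroup.mem_sup_right (Subgroup.mem_zpowers _))
    have hUX : U ≤ d.autSub := sup_le (center_le_autSub d) (Subgroup.zpowers_le.2 i.2)
    have h2 : U < d.autSub := lt_of_le_of_ne hUX fun e => by
      have hjU : (j : S) ∈ U := by rw [e]; exact j.2
      rw [← SetLike.mem_coe, Subgroup.normal_mul] at hjU
      obtain ⟨w, hw', u, hu, hwu⟩ := hjU
      obtain ⟨k, rfl⟩ := hu
      have hjU' : w * (i : S) ^ k = j := hwu
      rcases Int.even_or_odd' k with ⟨l, rfl | rfl⟩
      · refine hj' ?_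
        rw [← hjU', zpow_mul, zpow_two, hi]
        exact mul_mem hw' (zpow_mem hcz l)
      · refine hij ?_
        rw [← hjU', add_comm, zpow_add, zpow_one, zpow_mul, zpow_two, hi, ← mul_assoc w,
          ← Subgroup.mem_center_iff.1 hw' (i : S), mul_assoc (i : S), inv_mul_cancel_left]
        exact mul_mem hw' (zpow_mem hcz l)
    have h3 : d.autSub < Nm := lt_of_le_of_ne Subgroup.le_normalizer fun e => by
      have := d.relIndex_autSub
      rw [show Subgroup.normalizer (d.autSub : Set S) = d.autSub from e.symm,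
        Subgroup.relIndex_self] at this
      omega
    have h4 := d.autSub.normalizerMonoidHom.ker.card_mul_index
    rw [Subgroup.index_ker] at h4
    have h5 : Nat.card d.autSub.normalizerMonoidHom.ker ≤ Nat.card (Subgroup.center S) :=
      Nat.card_le_card_of_injective (fun g => ⟨(g.1 : S), hker _ g.2⟩)
        fun g g' h => Subtype.ext (Subtype.ext (congrArg (fun t : Subgroup.center S => (t : S)) h))
    have h6 := hlt h1
    have h7 := hlt h2
    have h8 := hlt h3
    have h9 : 0 < Nat.card (Subgroup.center S) := Nat.card_pos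
    refine Nat.le_of_mul_le_mul_left ?_ h9
    calc Nat.card (Subgroup.center S) * 8 ≤ Nat.card Nm := by omega
      _ = _ := h4.symm
      _ ≤ _ := Nat.mul_le_mul_right _ h5

end rigidAut

end CfsgLib.Classification.RankTwoFusion
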